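import Groth.Prelude.Def_W4bk4git07Quot
import Groth.Agent.AlgGrpLib.TorsorQuot
import Mathlib.AlgebraicGeometry.Morphisms.SchemeTheoreticallyDominant
import Mathlib.AlgebraicGeometry.Morphisms.FlatDescent

/-! Geometric quotients descend along faithfully flat quasi-compact maps. -/

set_option autoImplicit false
set_option backward.isDefEq.respectTransparency.types false

universe u

open CategoryTheory Limits MonoidalCategory CartesianMonoidalCategory MonObj AlgebraicGeometry Topology

namespace Groth.Agent.EqInt24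

theorem appLE_congr_hom {A B : Scheme.{u}} {f g : A ⟶ B} (e : f = g) (U : B.Opens) (V : A.Opens)
    (h : V ≤ f ⁻¹ᵁ U) (h' : V ≤ g ⁻¹ᵁ U) (x : Γ(B, U)) : f.appLE U V h x = g.appLE U V h' x := by
  subst e; rfl

theorem appLE_appLE_apply {A B C : Scheme.{u}} (f : A ⟶ B) (g : B ⟶ C) (U : C.Opens) (V : B.Opens) (W : A.Opens)
    (e₁ : V ≤ g ⁻¹ᵁ U) (e₂ : W ≤ f ⁻¹ᵁ V) (x : Γ(C, U)) :
    f.appLE V W e₂ (g.appLE U V e₁ x) =
      (f ≫ g).appLE U W (e₂.trans (fun t ht => e₁ ht)) x :=
  congrArg (fun h => h.hom x) (Scheme.Hom.appLE_comp_appLE f g U V W e₁ e₂)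

theorem app_apply {A B : Scheme.{u}} (f : A ⟶ B) (U : B.Opens) (x : Γ(B, U)) :
    f.app U x = f.appLE U (f ⁻¹ᵁ U) le_rfl x := by rw [Scheme.Hom.app_eq_appLE]

theorem isSchemeTheoreticallyDominant_of_app_injective {A B : Scheme.{u}} (f : A ⟶ B) [QuasiCompact f]
    (h : ∀ U : B.Opens, Function.Injective (f.app U)) : IsSchemeTheoreticallyDominant f := by
  rw [isSchemeTheoreticallyDominant_iff]
  refine Scheme.IdealSheafData.ext (funext fun U => ?_)
  rw [Scheme.Hom.ker_apply]
  exact (RingHom.injective_iff_ker_eq_bot _).mp (h U.1)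

variable {S : Scheme.{u}} {G X Y X' Y' : Over S} [GrpObj G] (a : AlgGrp.Action G X) (φ : X ⟶ Y)

/-- The action on a base change. -/
noncomputable def pbAct (hinv : GIT.IsInvariant a φ) {T : Over S} (f : T ⟶ Y) :
    AlgGrp.Action G (pullback φ f) where
  act := pullback.lift ((G ◁ pullback.fst φ f) ≫ a.act) (snd G _ ≫ pullback.snd φ f)
    (by rw [Category.assoc, hinv, whiskerLeft_snd_assoc, pullback.condition, Category.assoc])
  one_act := by
    apply pullback.hom_ext
    · rw [Category.assoc, pullback.lift_fst, ← MonoidalCategory.whisker_exchange_assoc, a.one_act,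
        ← MonoidalCategory.leftUnitor_naturality]
    · rw [Category.assoc, pullback.lift_snd, whiskerRight_snd_assoc, leftUnitor_hom]
  mul_act := by
    apply pullback.hom_ext
    · rw [Category.assoc, pullback.lift_fst, ← MonoidalCategory.whisker_exchange_assoc, a.mul_act]
      simp only [Category.assoc, pullback.lift_fst, ← MonoidalCategory.whiskerLeft_comp_assoc]
      simp only [MonoidalCategory.whiskerLeft_comp, Category.assoc, MonoidalCategory.tensor_whiskerLeft,
        Iso.inv_hom_id_assoc]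
    · simp only [Category.assoc, pullback.lift_snd, whiskerRight_snd_assoc, whiskerLeft_snd_assoc]
      simp

theorem isGeomQuot_of_ff (hinv : GIT.IsInvariant a φ) [QuasiCompact φ.left]
    (α : Y' ⟶ Y) [Flat α.left] [Surjective α.left] [QuasiCompact α.left]
    (pr : X' ⟶ X) (φ' : X' ⟶ Y') (hpb : IsPullback pr φ' φ α)
    (a' : AlgGrp.Action G X') (heq : a'.act ≫ pr = (G ◁ pr) ≫ a.act) (h : GIT.IsGeomQuot a' φ') :
    GIT.IsGeomQuot a φ := by
  have hl : IsPullback pr.left φ'.left φ.left α.left := hpb.map (Over.forget S)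
  have hcond : φ'.left ≫ α.left = pr.left ≫ φ.left := hl.w.symm
  have hsurj : Function.Surjective φ.left.base := fun y => by
    obtain ⟨y', rfl⟩ := α.left.surjective y
    obtain ⟨x', rfl⟩ := h.surj y'
    exact ⟨pr.left x', by rw [← Scheme.Hom.comp_apply, hl.w, Scheme.Hom.comp_apply]⟩
  have hinj : ∀ U : Y.left.Opens, Function.Injective (φ.left.app U) := fun U => by
    intro s t hst
    apply (AlgGrpLib.TorsorQuot.app_injective_range α.left _ _ (IsPullback.of_hasPullback α.left α.left) U).1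
    apply (h.sections _).1
    rw [app_apply, app_apply] at hst
    have h1 := congrArg (pr.left.appLE (φ.left ⁻¹ᵁ U) (φ'.left ⁻¹ᵁ (α.left ⁻¹ᵁ U))
      (by rw [← Scheme.Hom.comp_preimage, ← Scheme.Hom.comp_preimage, hcond])) hst
    rw [appLE_appLE_apply, appLE_appLE_apply, appLE_congr_hom hl.w, appLE_congr_hom hl.w] at h1
    simp only [app_apply, appLE_appLE_apply]
    exact h1
  refine ⟨hinv, hsurj, fun z => ?_, ?_, fun U => ⟨hinj U, Set.ext fun f => ⟨?_, fun hf => ?_⟩⟩⟩
  · -- orbits
    obtain ⟨y', hy'⟩ := α.left.surjective (φ.left (pullback.fst φ.left φ.left z))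
    obtain ⟨w, hw1, hw2⟩ := Scheme.Pullback.exists_preimage_pullback
      (f := pullback.fst φ.left φ.left ≫ φ.left) (g := α.left) z y' (by rw [Scheme.Hom.comp_apply, hy'])
    let l₁ : pullback (pullback.fst φ.left φ.left ≫ φ.left) α.left ⟶ X'.left :=
      hl.lift (pullback.fst _ _ ≫ pullback.fst φ.left φ.left) (pullback.snd _ _)
        (by rw [Category.assoc]; exact pullback.condition)
    let l₂ : pullback (pullback.fst φ.left φ.left ≫ φ.left) α.left ⟶ X'.left :=
      hl.lift (pullback.fst _ _ ≫ pullback.snd φ.left φ.left) (pullback.snd _ _)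
        (by rw [Category.assoc, ← pullback.condition (f := φ.left) (g := φ.left)]; exact pullback.condition)
    let m : pullback φ'.left φ'.left ⟶ pullback φ.left φ.left :=
      pullback.map _ _ _ _ pr.left pr.left α.left hl.w.symm hl.w.symm
    let n : pullback (pullback.fst φ.left φ.left ≫ φ.left) α.left ⟶ pullback φ'.left φ'.left :=
      pullback.lift l₁ l₂ (by rw [hl.lift_snd, hl.lift_snd])
    have hnm : n ≫ m = pullback.fst _ _ := by
      apply pullback.hom_ext
      · simp only [m, n, pullback.map, Category.assoc, pullback.lift_fst, pullback.lift_fst_assoc]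
        exact hl.lift_fst _ _ _
      · simp only [m, n, pullback.map, Category.assoc, pullback.lift_snd, pullback.lift_snd_assoc]
        exact hl.lift_fst _ _ _
    have hP : GIT.PsiY a' φ' h.inv ≫ m = (G ◁ pr).left ≫ GIT.PsiY a φ hinv := by
      apply pullback.hom_ext
      · simp only [m, GIT.PsiY, pullback.map, Category.assoc, pullback.lift_fst, pullback.lift_fst_assoc]
        rw [← Over.comp_left, ← Over.comp_left, heq]
      · simp only [m, GIT.PsiY, pullback.map, Category.assoc, pullback.lift_snd, pullback.lift_snd_assoc]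
        rw [← Over.comp_left, ← Over.comp_left, whiskerLeft_snd]
    obtain ⟨p, hp⟩ := h.orbit (n w)
    refine ⟨(G ◁ pr).left p, ?_⟩
    rw [← Scheme.Hom.comp_apply, ← hP, Scheme.Hom.comp_apply, hp, ← Scheme.Hom.comp_apply, hnm, hw1]
  · -- universally submersive
    intro T Z i₁ i₂ φT hT
    let αZ : pullback α.left i₂ ⟶ Z := pullback.snd α.left i₂
    haveI : Flat αZ := MorphismProperty.pullback_snd _ _ ‹Flat α.left›
    haveI : Surjective αZ := MorphismProperty.pullback_snd _ _ ‹Surjective α.left›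
    haveI : QuasiCompact αZ := MorphismProperty.pullback_snd _ _ ‹QuasiCompact α.left›
    have hsq : IsPullback (pullback.fst φT αZ ≫ i₁) (pullback.snd φT αZ) φ.left (αZ ≫ i₂) :=
      (IsPullback.of_hasPullback φT αZ).paste_horiz hT.flip
    rw [show αZ ≫ i₂ = pullback.fst α.left i₂ ≫ α.left from pullback.condition.symm] at hsq
    have hT' := IsPullback.of_right' hsq hl
    have hq : IsQuotientMap (pullback.snd φT αZ) := h.subm _ _ _ hT'.flip
    have hc : IsQuotientMap (φT ∘ pullback.fst φT αZ) := by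
      have e : ((φT : _ → Z) ∘ (pullback.fst φT αZ : _ → T)) = αZ ∘ pullback.snd φT αZ := by
        funext t
        show φT (pullback.fst φT αZ t) = αZ (pullback.snd φT αZ t)
        rw [← Scheme.Hom.comp_apply, ← Scheme.Hom.comp_apply, pullback.condition]
      rw [e]
      exact (Flat.isQuotientMap_of_surjective αZ).comp hq
    exact IsQuotientMap.of_comp (pullback.fst φT αZ).continuous φT.continuous hc
  · rintro ⟨s, rfl⟩
    show _ = _
    rw [app_apply, appLE_appLE_apply, appLE_appLE_apply]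
    exact appLE_congr_hom hinv.left _ _ _ _ _
  · -- invariant sections
    have hle : φ'.left ⁻¹ᵁ (α.left ⁻¹ᵁ U) ≤ pr.left ⁻¹ᵁ (φ.left ⁻¹ᵁ U) := by
      rw [← Scheme.Hom.comp_preimage, ← Scheme.Hom.comp_preimage, hcond]
    have hf' : GIT.IsInvSection a' φ' (α.left ⁻¹ᵁ U) (pr.left.appLE _ _ hle f) := by
      unfold GIT.IsInvSection
      rw [appLE_appLE_apply, appLE_appLE_apply]
      have hW : a'.act.left ⁻¹ᵁ (φ'.left ⁻¹ᵁ (α.left ⁻¹ᵁ U)) ⊓ (snd G X').left ⁻¹ᵁ (φ'.left ⁻¹ᵁ (α.left ⁻¹ᵁ U)) ≤
          (G ◁ pr).left ⁻¹ᵁ (a.act.left ⁻¹ᵁ (φ.left ⁻¹ᵁ U) ⊓ (snd G X).left ⁻¹ᵁ (φ.left ⁻¹ᵁ U)) := by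
        intro t ht
        obtain ⟨h1, h2⟩ := ht
        constructor
        · show φ.left (a.act.left ((G ◁ pr).left t)) ∈ U
          rw [← Scheme.Hom.comp_apply (G ◁ pr).left a.act.left, ← Over.comp_left, ← heq, Over.comp_left, Scheme.Hom.comp_apply]
          exact hle h1
        · show φ.left ((snd G X).left ((G ◁ pr).left t)) ∈ U
          rw [← Scheme.Hom.comp_apply (G ◁ pr).left (snd G X).left, ← Over.comp_left, whiskerLeft_snd, Over.comp_left, Scheme.Hom.comp_apply]
          exact hle h2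
      have h1 := congrArg ((G ◁ pr).left.appLE _ _ hW) hf
      rw [appLE_appLE_apply, appLE_appLE_apply,
        appLE_congr_hom (show (G ◁ pr).left ≫ a.act.left = a'.act.left ≫ pr.left by
          rw [← Over.comp_left, ← Over.comp_left, heq]),
        appLE_congr_hom (show (G ◁ pr).left ≫ (snd G X).left = (snd G X').left ≫ pr.left by
          rw [← Over.comp_left, ← Over.comp_left, whiskerLeft_snd])] at h1
      exact h1
    obtain ⟨s', hs'⟩ := (h.sections (α.left ⁻¹ᵁ U)).2.ge hf'
    rw [app_apply] at hs'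
    haveI := isSchemeTheoreticallyDominant_of_app_injective φ.left hinj
    let p := pullback.fst α.left α.left
    let q := pullback.snd α.left α.left
    obtain ⟨-, hran⟩ := AlgGrpLib.TorsorQuot.app_injective_range α.left p q (IsPullback.of_hasPullback _ _) U
    have hs'' : s' ∈ Set.range (α.left.app U) := by
      rw [hran]
      haveI : Flat p := MorphismProperty.pullback_fst _ _ ‹Flat α.left›
      haveI : Flat (p ≫ α.left) := inferInstance
      let φ'' := pullback.snd φ.left (p ≫ α.left)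
      haveI : QuasiCompact φ'' := MorphismProperty.pullback_snd _ _ ‹QuasiCompact φ.left›
      haveI : IsSchemeTheoreticallyDominant φ'' :=
        inferInstanceAs (IsSchemeTheoreticallyDominant (pullback.snd φ.left (p ≫ α.left)))
      show _ = _
      apply φ''.app_injective
      have key : ∀ (r : pullback α.left α.left ⟶ Y'.left) (hr : r ≫ α.left = p ≫ α.left) (W : (pullback α.left α.left).Opens)
          (hW : W ≤ r ⁻¹ᵁ (α.left ⁻¹ᵁ U)) (hW' : φ'' ⁻¹ᵁ W ≤ pullback.fst φ.left (p ≫ α.left) ⁻¹ᵁ (φ.left ⁻¹ᵁ U)),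
          φ''.app W (r.appLE (α.left ⁻¹ᵁ U) W hW s') =
            (pullback.fst φ.left (p ≫ α.left)).appLE _ _ hW' f := fun r hr W hW hW' => by
        let l := hl.lift (pullback.fst φ.left (p ≫ α.left)) (φ'' ≫ r) (by rw [Category.assoc, hr]; exact pullback.condition)
        have hl1 : l ≫ pr.left = pullback.fst φ.left (p ≫ α.left) := hl.lift_fst _ _ _
        have hl2 : l ≫ φ'.left = φ'' ≫ r := hl.lift_snd _ _ _
        have hlW : φ'' ⁻¹ᵁ W ≤ l ⁻¹ᵁ (φ'.left ⁻¹ᵁ (α.left ⁻¹ᵁ U)) := by
          intro t ht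
          show φ'.left (l t) ∈ α.left ⁻¹ᵁ U
          rw [← Scheme.Hom.comp_apply, hl2, Scheme.Hom.comp_apply]
          exact hW ht
        have h1 := congrArg (l.appLE _ _ hlW) hs'
        rw [appLE_appLE_apply, appLE_appLE_apply, appLE_congr_hom hl1, appLE_congr_hom hl2] at h1
        rw [app_apply, appLE_appLE_apply]
        exact h1
      have hq : q ≫ α.left = p ≫ α.left := pullback.condition.symm
      have hW' : φ'' ⁻¹ᵁ (p ⁻¹ᵁ (α.left ⁻¹ᵁ U) ⊓ q ⁻¹ᵁ (α.left ⁻¹ᵁ U)) ≤
          pullback.fst φ.left (p ≫ α.left) ⁻¹ᵁ (φ.left ⁻¹ᵁ U) := by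
        intro t ht
        show φ.left (pullback.fst φ.left (p ≫ α.left) t) ∈ U
        have e := congrArg (fun m : _ ⟶ Y.left => m t) (pullback.condition (f := φ.left) (g := p ≫ α.left))
        simp only [Scheme.Hom.comp_apply] at e
        exact Eq.mpr (congrArg (· ∈ U) e) ht.1
      exact (key p rfl _ _ hW').trans (key q hq _ _ hW').symm
    obtain ⟨s, hs⟩ := hs''
    refine ⟨s, ?_⟩
    -- compare after pulling back to `X'`
    have hprinj : ∀ x y : Γ(X.left, φ.left ⁻¹ᵁ U), pr.left.appLE _ _ hle x = pr.left.appLE _ _ hle y → x = y := by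
      haveI : Flat pr.left := MorphismProperty.of_isPullback hl.flip ‹Flat α.left›
      haveI : Surjective pr.left := MorphismProperty.of_isPullback hl.flip ‹Surjective α.left›
      haveI : QuasiCompact pr.left := MorphismProperty.of_isPullback hl.flip ‹QuasiCompact α.left›
      intro x y hxy
      apply (AlgGrpLib.TorsorQuot.app_injective_range pr.left _ _ (IsPullback.of_hasPullback pr.left pr.left) _).1
      have hge : pr.left ⁻¹ᵁ (φ.left ⁻¹ᵁ U) ≤ φ'.left ⁻¹ᵁ (α.left ⁻¹ᵁ U) := by
        rw [← Scheme.Hom.comp_preimage, ← Scheme.Hom.comp_preimage, hcond]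
      have h2 := congrArg ((𝟙 X'.left : X'.left ⟶ X'.left).appLE (φ'.left ⁻¹ᵁ (α.left ⁻¹ᵁ U)) (pr.left ⁻¹ᵁ (φ.left ⁻¹ᵁ U)) hge) hxy
      rw [appLE_appLE_apply, appLE_appLE_apply, appLE_congr_hom (Category.id_comp pr.left),
        appLE_congr_hom (Category.id_comp pr.left)] at h2
      rw [app_apply, app_apply]
      exact h2
    apply hprinj
    rw [← hs', ← hs, app_apply, app_apply, appLE_appLE_apply, appLE_appLE_apply]
    exact appLE_congr_hom hl.w _ _ _ _ _

theorem isUnivGeomQuot_of_ff (hinv : GIT.IsInvariant a φ) [QuasiCompact φ.left]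
    (α : Y' ⟶ Y) [Flat α.left] [Surjective α.left] [QuasiCompact α.left]
    (pr : X' ⟶ X) (φ' : X' ⟶ Y') (hpb : IsPullback pr φ' φ α)
    (a' : AlgGrp.Action G X') (heq : a'.act ≫ pr = (G ◁ pr) ≫ a.act) (h : GIT.IsUnivGeomQuot a' φ') :
    GIT.IsUnivGeomQuot a φ := by
  refine ⟨isGeomQuot_of_ff a φ hinv α pr φ' hpb a' heq h.1, ?_⟩
  intro T Z prT φT g _ hT b hb hbinv
  haveI : QuasiCompact φT.left := MorphismProperty.of_isPullback (hT.map (Over.forget S)) ‹QuasiCompact φ.left›
  let βZ : pullback g α ⟶ Z := pullback.fst g α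
  have hβ := (IsPullback.of_hasPullback g α).map (Over.forget S)
  haveI : Flat βZ.left := MorphismProperty.of_isPullback hβ.flip ‹Flat α.left›
  haveI : Surjective βZ.left := MorphismProperty.of_isPullback hβ.flip ‹Surjective α.left›
  haveI : QuasiCompact βZ.left := MorphismProperty.of_isPullback hβ.flip ‹QuasiCompact α.left›
  let b' := pbAct b φT hbinv βZ
  have hinv'' : GIT.IsInvariant b' (pullback.snd φT βZ) := pullback.lift_snd _ _ _
  have hb' : b'.act ≫ pullback.fst φT βZ = (G ◁ pullback.fst φT βZ) ≫ b.act := pullback.lift_fst _ _ _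
  have hsq : IsPullback (pullback.fst φT βZ ≫ prT) (pullback.snd φT βZ) φ (pullback.snd g α ≫ α) := by
    rw [← pullback.condition]
    exact (IsPullback.of_hasPullback φT βZ).paste_horiz hT
  have hT' := IsPullback.of_right' hsq hpb
  refine isGeomQuot_of_ff b φT hbinv βZ (pullback.fst φT βZ) (pullback.snd φT βZ) (IsPullback.of_hasPullback _ _) b' hb' ?_
  refine h.2 _ _ (pullback.snd g α) trivial hT' b' ?_ hinv''
  apply hpb.hom_ext
  · simp only [Category.assoc, hpb.lift_fst, heq, ← MonoidalCategory.whiskerLeft_comp_assoc]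
    rw [reassoc_of% hb', hb, ← MonoidalCategory.whiskerLeft_comp_assoc]
  · simp only [Category.assoc, hpb.lift_snd]
    rw [reassoc_of% hinv'', show a'.act ≫ φ' = snd G X' ≫ φ' from h.1.inv, whiskerLeft_snd_assoc, hpb.lift_snd]

end Groth.Agent.EqInt24
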