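import Mathlib.AlgebraicGeometry.Morphisms.Flat
import Mathlib.AlgebraicGeometry.FunctionField
import Mathlib.RingTheory.Flat.Basic

/-! Non-zero functions on an integral scheme pull back to non-zero-divisors along flat maps. -/

set_option autoImplicit false
set_option backward.isDefEq.respectTransparency.types false

universe u

open CategoryTheory AlgebraicGeometry

namespace Groth.Agent.EqInt24

theorem isRegular_appLE {A B : Scheme.{u}} (f : A ⟶ B) [Flat f] [IsIntegral B] {V : B.Opens} {W : A.Opens}
    (e : W ≤ f ⁻¹ᵁ V) {b : Γ(B, V)} (hb : b ≠ 0) : IsRegular (f.appLE V W e b) := by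
  refine isRegular_iff.mpr ?_
  suffices hl : ∀ s : Γ(A, W), f.appLE V W e b * s = 0 → s = 0 by
    refine ⟨fun s t hst => sub_eq_zero.mp (hl _ ?_), fun s t hst => sub_eq_zero.mp (hl _ ?_)⟩
    · rw [mul_sub]; exact sub_eq_zero.mpr hst
    · rw [mul_sub, mul_comm _ s, mul_comm _ t]; exact sub_eq_zero.mpr hst
  intro s hs
  refine TopCat.Presheaf.section_ext A.sheaf W s 0 fun x hx => ?_
  have hg : A.presheaf.germ W x hx (f.appLE V W e b) = f.stalkMap x (B.presheaf.germ V (f x) (e hx) b) := by
    rw [Scheme.Hom.germ_stalkMap_apply, Scheme.Hom.appLE, CommRingCat.comp_apply]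
    exact A.presheaf.germ_res_apply (homOfLE e) x hx _
  algebraize [(f.stalkMap x).hom]
  haveI : Module.Flat (B.presheaf.stalk (f x)) (A.presheaf.stalk x) := Flat.stalkMap f x
  have hb' : B.presheaf.germ V (f x) (e hx) b ≠ 0 := fun h0 =>
    hb (germ_injective_of_isIntegral B (f x) (e hx) (h0.trans (map_zero _).symm))
  have hreg : IsSMulRegular (A.presheaf.stalk x) (algebraMap (B.presheaf.stalk (f x)) (A.presheaf.stalk x)
      (B.presheaf.germ V (f x) (e hx) b)) :=
    IsSMulRegular.of_flat (IsSMulRegular.of_ne_zero hb')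
  show A.presheaf.germ W x hx s = A.presheaf.germ W x hx 0
  rw [map_zero]
  apply hreg
  simp only [smul_eq_mul]
  rw [mul_zero]
  have h2 := congrArg (A.presheaf.germ W x hx) hs
  rw [map_mul, map_zero, hg] at h2
  exact h2

theorem flat_to_field {k : Type u} [Field k] {A : Scheme.{u}} (f : A ⟶ Spec (CommRingCat.of k)) : Flat f := by
  rw [IsZariskiLocalAtSource.iff_of_openCover (P := @Flat) A.affineCover]
  intro i
  obtain ⟨φ, hφ⟩ := Spec.map_surjective (A.affineCover.f i ≫ f)
  refine hφ ▸ Flat.SpecMap_iff.mpr ?_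
  algebraize [φ.hom]
  show Module.Flat k _
  infer_instance

end Groth.Agent.EqInt24
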