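import Mathlib
import Groth.Agent.Et18.Descent
import Groth.Agent.AbSchLib.SmoothReduced
import Groth.Agent.AbSchLib.Rigidity
import Groth.Agent.AlgGrpLib.TorsorMap
import Groth.Agent.EqInt24.FlatReg
import Groth.Prelude.Def_ChGrp

/-! Residue fields along base change of torsors. -/

set_option autoImplicit false
set_option linter.style.haveILetI false
set_option backward.isDefEq.respectTransparency.types false
set_option maxHeartbeats 1000000
universe u
open CategoryTheory AlgebraicGeometry TopologicalSpace
open CategoryTheory.Limits (pullback)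

noncomputable section

namespace Groth.Agent.EqInt24

variable {A B C D : Scheme.{u}} {f : A ⟶ B} {g : A ⟶ C} {g' : B ⟶ D} {π : C ⟶ D}

theorem exists_point (h : IsPullback f g g' π) (b : B) (c : C) (e : g' b = π c) :
    ∃ a, f a = b ∧ g a = c := by
  obtain ⟨t, ht1, ht2⟩ := Scheme.Pullback.exists_preimage_pullback b c e
  refine ⟨h.isoPullback.inv t, ?_, ?_⟩
  · rw [← Scheme.Hom.comp_apply, h.isoPullback_inv_fst, ht1]
  · rw [← Scheme.Hom.comp_apply, h.isoPullback_inv_snd, ht2]

/-- A point with an isomorphism of residue fields has a single point above it in a base change. -/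
theorem exists_unique_point (h : IsPullback f g g' π) (z : B) (y : C) (e : g' z = π y)
    [IsIso (π.residueFieldMap y)] :
    ∃ a, f a = z ∧ g a = y ∧ IsIso (f.residueFieldMap a) ∧ ∀ a', f a' = z → g a' = y → a' = a := by
  let r : Spec (B.residueField z) ⟶ C :=
    Spec.map ((D.residueFieldCongr e).inv ≫ g'.residueFieldMap z) ≫ Spec.map (inv (π.residueFieldMap y)) ≫
      C.fromSpecResidueField y
  have hr : B.fromSpecResidueField z ≫ g' = r ≫ π := by
    simp only [r, Category.assoc]
    rw [← π.SpecMap_residueFieldMap_fromSpecResidueField y, ← Spec.map_comp_assoc (π.residueFieldMap y),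
      IsIso.hom_inv_id, Spec.map_id, Category.id_comp, ← g'.SpecMap_residueFieldMap_fromSpecResidueField z,
      Spec.map_comp, Category.assoc, Scheme.residueFieldCongr_inv, Scheme.residueFieldCongr_fromSpecResidueField]
  let t := h.lift (B.fromSpecResidueField z) r hr
  have ht1 : t ≫ f = B.fromSpecResidueField z := h.lift_fst _ _ _
  have ht2 : t ≫ g = r := h.lift_snd _ _ _
  let a := t (IsLocalRing.closedPoint (B.residueField z))
  have ha1 : f a = z := by
    rw [← Scheme.Hom.comp_apply, ht1, Scheme.fromSpecResidueField_apply]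
  have ha2 : g a = y := by
    rw [← Scheme.Hom.comp_apply, ht2]
    simp only [r, Scheme.Hom.comp_apply, Scheme.fromSpecResidueField_apply]
  let qOf : ∀ a', f a' = z → (Spec (A.residueField a') ⟶ Spec (B.residueField z)) := fun a' h1 =>
    Spec.map ((B.residueFieldCongr h1).inv ≫ f.residueFieldMap a')
  have hqf : ∀ a' h1, qOf a' h1 ≫ B.fromSpecResidueField z = A.fromSpecResidueField a' ≫ f := fun a' h1 => by
    rw [← f.SpecMap_residueFieldMap_fromSpecResidueField a']
    simp only [qOf, Spec.map_comp, Category.assoc, Scheme.residueFieldCongr_inv,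
      Scheme.residueFieldCongr_fromSpecResidueField]
  have key₀ : ∀ a' (h1 : f a' = z) (h2 : g a' = y), qOf a' h1 ≫ t = A.fromSpecResidueField a' := by
    intro a' h1 h2
    refine h.hom_ext ?_ ?_
    · rw [Category.assoc, ht1, hqf]
    · let q' : Spec (A.residueField a') ⟶ Spec (C.residueField y) :=
        Spec.map ((C.residueFieldCongr h2).inv ≫ g.residueFieldMap a')
      have hq' : q' ≫ C.fromSpecResidueField y = A.fromSpecResidueField a' ≫ g := by
        rw [← g.SpecMap_residueFieldMap_fromSpecResidueField a']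
        simp only [q', Spec.map_comp, Category.assoc, Scheme.residueFieldCongr_inv,
          Scheme.residueFieldCongr_fromSpecResidueField]
      have hl : (qOf a' h1 ≫ r) ≫ π = (A.fromSpecResidueField a' ≫ g) ≫ π := by
        rw [Category.assoc, ← hr, ← Category.assoc, hqf, Category.assoc, Category.assoc, h.w]
      rw [Category.assoc, ht2, ← hq']
      simp only [r, ← Category.assoc]
      congr 1
      rw [← cancel_mono (Spec.map (π.residueFieldMap y)), ← cancel_mono (D.fromSpecResidueField (π y))]
      rw [← hq'] at hl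
      simp only [r, Category.assoc] at hl
      simp only [Category.assoc, Scheme.Hom.SpecMap_residueFieldMap_fromSpecResidueField]
      exact hl
  refine ⟨a, ha1, ha2, ?_, fun a' h1 h2 => ?_⟩
  · let e₀ : Spec (B.residueField z) ⟶ Spec (A.residueField a) :=
      Spec.map (Scheme.descResidueField (K := ↥(B.residueField z))
        (Scheme.stalkClosedPointTo (R := B.residueField z) t))
    have he₀ : e₀ ≫ A.fromSpecResidueField a = t :=
      Scheme.descResidueField_stalkClosedPointTo_fromSpecResidueField (B.residueField z) A t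
    have i1 : e₀ ≫ qOf a ha1 = 𝟙 _ := by
      rw [← cancel_mono (B.fromSpecResidueField z), Category.assoc, hqf, ← Category.assoc, he₀, ht1, Category.id_comp]
    have i2 : qOf a ha1 ≫ e₀ = 𝟙 _ := by
      rw [← cancel_mono (A.fromSpecResidueField a), Category.assoc, he₀, key₀ a ha1 ha2, Category.id_comp]
    haveI : IsIso ((B.residueFieldCongr ha1).inv ≫ f.residueFieldMap a) :=
      (ConcreteCategory.isIso_iff_bijective _).2 (AlgebraicGeometry.isIso_SpecMap_iff.1 ⟨e₀, i2, i1⟩)
    exact IsIso.of_isIso_comp_left (B.residueFieldCongr ha1).inv _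
  · have := congrArg (fun m : Spec (A.residueField a') ⟶ A => m (IsLocalRing.closedPoint (A.residueField a'))) (key₀ a' h1 h2)
    simp only [Scheme.Hom.comp_apply, Scheme.fromSpecResidueField_apply] at this
    rw [← this]
    exact congrArg t (Subsingleton.elim _ _)

/-- Residue fields descend to the bottom of a cartesian square at a point with a unique lift. -/
theorem isIso_residueFieldMap_of_unique {QA QB : Scheme.{u}} {p : A ⟶ QA} {q : B ⟶ QB} {m : QA ⟶ QB}
    (h : IsPullback f p q m) (a : A) [IsIso (f.residueFieldMap a)]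
    [GeometricallyReduced (Spec.map (q.residueFieldMap (f a)))]
    (huniq : ∀ a', f a' = f a → p a' = p a → a' = a) :
    IsIso (m.residueFieldMap (p a)) := by
  have e : m (p a) = q (f a) := by rw [← Scheme.Hom.comp_apply, ← Scheme.Hom.comp_apply, h.w]
  let r₁ : Spec (B.residueField (f a)) ⟶ Spec (QB.residueField (m (p a))) :=
    Spec.map ((QB.residueFieldCongr e).hom ≫ q.residueFieldMap (f a))
  let r₂ : Spec (QA.residueField (p a)) ⟶ Spec (QB.residueField (m (p a))) := Spec.map (m.residueFieldMap (p a))
  haveI : GeometricallyReduced r₁ := by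
    simp only [r₁, Spec.map_comp]
    exact (MorphismProperty.cancel_right_of_respectsIso @GeometricallyReduced _ _).2 inferInstance
  haveI : IsReduced (pullback r₁ r₂) :=
    GeometricallyReduced.geometrically_isReduced (f := r₁) r₂ _ _ (IsPullback.of_hasPullback r₁ r₂)
  have hr₁ : r₁ ≫ QB.fromSpecResidueField (m (p a)) = B.fromSpecResidueField (f a) ≫ q := by
    simp [r₁]
  have hr₂ : r₂ ≫ QB.fromSpecResidueField (m (p a)) = QA.fromSpecResidueField (p a) ≫ m := by
    simp [r₂]
  let j : pullback r₁ r₂ ⟶ A := h.lift (Limits.pullback.fst r₁ r₂ ≫ B.fromSpecResidueField (f a))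
    (Limits.pullback.snd r₁ r₂ ≫ QA.fromSpecResidueField (p a)) (by
      rw [Category.assoc, Category.assoc, ← hr₁, ← hr₂, Limits.pullback.condition_assoc])
  have hj : ∀ x, j x = a := fun x => huniq _
    (by rw [← Scheme.Hom.comp_apply, h.lift_fst]; simp)
    (by rw [← Scheme.Hom.comp_apply, h.lift_snd]; simp)
  let g₀ : Spec (A.residueField a) ⟶ Spec (QA.residueField (p a)) := Spec.map (p.residueFieldMap a)
  let f₀ : Spec (A.residueField a) ⟶ Spec (B.residueField (f a)) := Spec.map (f.residueFieldMap a)
  let s : Spec (B.residueField (f a)) ⟶ pullback r₁ r₂ := Limits.pullback.lift (𝟙 _) (inv f₀ ≫ g₀) (by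
    rw [Category.id_comp, Category.assoc, IsIso.eq_inv_comp, ← cancel_mono (QB.fromSpecResidueField (m (p a))),
      Category.assoc, Category.assoc, hr₁, hr₂]
    simp only [f₀, g₀]
    rw [Scheme.Hom.SpecMap_residueFieldMap_fromSpecResidueField_assoc,
      Scheme.Hom.SpecMap_residueFieldMap_fromSpecResidueField_assoc, h.w])
  have hs : s ≫ Limits.pullback.fst r₁ r₂ = 𝟙 _ := Limits.pullback.lift_fst _ _ _
  haveI : IsClosedImmersion (s ≫ Limits.pullback.fst r₁ r₂) := by rw [hs]; infer_instance
  haveI : IsClosedImmersion s := IsClosedImmersion.of_comp s (Limits.pullback.fst r₁ r₂)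
  haveI : Mono j := by
    refine ⟨fun {T} u v huv => ?_⟩
    apply Limits.pullback.hom_ext
    · rw [← cancel_mono (B.fromSpecResidueField (f a))]
      have := huv =≫ f
      simpa only [Category.assoc, j, h.lift_fst] using this
    · rw [← cancel_mono (QA.fromSpecResidueField (p a))]
      have := huv =≫ p
      simpa only [Category.assoc, j, h.lift_snd] using this
  have hsub : Subsingleton ↥(pullback r₁ r₂) := ⟨fun x y => j.injective ((hj x).trans (hj y).symm)⟩
  haveI : Surjective s := ⟨fun x => ⟨IsLocalRing.closedPoint (B.residueField (f a)), Subsingleton.elim _ _⟩⟩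
  haveI : IsIso s := isIso_of_isClosedImmersion_of_surjective s
  haveI : IsIso (Limits.pullback.fst r₁ r₂) := by
    have : IsIso (s ≫ Limits.pullback.fst r₁ r₂) := by rw [hs]; infer_instance
    exact IsIso.of_isIso_comp_left s _
  haveI : IsIso r₂ := by
    have hQ : Et18.FPQC r₁ := ⟨⟨⟨fun x => ⟨IsLocalRing.closedPoint (B.residueField (f a)), Subsingleton.elim _ _⟩⟩,
      EqInt24.flat_to_field r₁⟩, inferInstance⟩
    exact MorphismProperty.of_isPullback_of_descendsAlong (P := MorphismProperty.isomorphisms Scheme.{u})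
      (IsPullback.of_hasPullback r₁ r₂) hQ ‹IsIso (Limits.pullback.fst r₁ r₂)›
  exact (ConcreteCategory.isIso_iff_bijective _).2 (AlgebraicGeometry.isIso_SpecMap_iff.1 ‹IsIso r₂›)

end Groth.Agent.EqInt24

noncomputable section

namespace Groth.Agent.EqInt24

open MonoidalCategory CartesianMonoidalCategory MonObj GrpObj

/-- A cartesian square restricted over an open subset of the base. -/
theorem exists_restrict_square {A B QA QB : Scheme.{u}} {f : A ⟶ B} {p : A ⟶ QA} {q : B ⟶ QB} {m : QA ⟶ QB}
    (h : IsPullback f p q m) (V : QB.Opens) :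
    ∃ L, IsPullback (f ∣_ (q ⁻¹ᵁ V)) L (q ∣_ V) (m ∣_ V) := by
  have ho : IsPullback (f ∣_ (q ⁻¹ᵁ V)) ((f ⁻¹ᵁ (q ⁻¹ᵁ V)).ι ≫ p) ((q ∣_ V) ≫ V.ι) m := by
    rw [morphismRestrict_ι]
    exact (isPullback_morphismRestrict f (q ⁻¹ᵁ V)).paste_vert h
  have hm := isPullback_morphismRestrict m V
  have e : ((f ∣_ (q ⁻¹ᵁ V)) ≫ (q ∣_ V)) ≫ V.ι = ((f ⁻¹ᵁ (q ⁻¹ᵁ V)).ι ≫ p) ≫ m := by
    rw [Category.assoc]
    exact ho.w
  refine ⟨hm.lift ((f ∣_ (q ⁻¹ᵁ V)) ≫ (q ∣_ V)) ((f ⁻¹ᵁ (q ⁻¹ᵁ V)).ι ≫ p) e,
    IsPullback.of_bot ?_ (hm.lift_fst _ _ _).symm hm⟩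
  rw [hm.lift_snd]
  exact ho

/-- A specialisation inside a fibre out of a point rational over the base is an equality. -/
theorem eq_of_specializes {X Y : Scheme.{u}} (π : X ⟶ Y) [IsSeparated π] (y y' : X)
    [IsIso (π.residueFieldMap y)] (hs : y ⤳ y') (he : π y' = π y) : y' = y := by
  let s : Spec (Y.residueField (π y)) ⟶ π.fiber (π y) :=
    Limits.pullback.lift (Spec.map (inv (π.residueFieldMap y)) ≫ X.fromSpecResidueField y) (𝟙 _) (by
      rw [Category.id_comp, Category.assoc, ← π.SpecMap_residueFieldMap_fromSpecResidueField y,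
        ← Spec.map_comp_assoc, IsIso.hom_inv_id, Spec.map_id, Category.id_comp])
  have hs1 : s ≫ π.fiberToSpecResidueField (π y) = 𝟙 _ := Limits.pullback.lift_snd _ _ _
  have hs2 : s ≫ π.fiberι (π y) = Spec.map (inv (π.residueFieldMap y)) ≫ X.fromSpecResidueField y :=
    Limits.pullback.lift_fst _ _ _
  haveI : IsSeparated (π.fiberToSpecResidueField (π y)) :=
    MorphismProperty.pullback_snd (P := @IsSeparated) _ _ inferInstance
  haveI : IsClosedImmersion (s ≫ π.fiberToSpecResidueField (π y)) := by rw [hs1]; infer_instance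
  haveI : IsClosedImmersion s := IsClosedImmersion.of_comp s (π.fiberToSpecResidueField (π y))
  have hrange : ∀ t, π.fiberι (π y) (s t) = y := fun t => by
    rw [← Scheme.Hom.comp_apply, hs2, Scheme.Hom.comp_apply, Scheme.fromSpecResidueField_apply]
  obtain ⟨w', hw'⟩ := (π.range_fiberι (π y)).ge (show y' ∈ π ⁻¹' {π y} from he)
  let t₀ := IsLocalRing.closedPoint (Y.residueField (π y))
  have h1 : s t₀ ⤳ w' := by
    rw [← (π.fiberι (π y)).isEmbedding.isInducing.specializes_iff]
    rw [hw']
    exact (hrange t₀).symm ▸ hs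
  obtain ⟨t, ht⟩ := h1.mem_closed s.isClosedEmbedding.isClosed_range ⟨t₀, rfl⟩
  rw [← hw', ← ht, hrange]

variable {k : Type u} [Field k] {G : Over (Spec (CommRingCat.of k))} [GrpObj G]

/-- A point whose orbit lies in its closure has invariant closure. -/
theorem preimage_closure_eq [UniversallyOpen G.hom] {X : Over (Spec (CommRingCat.of k))} (a : AlgGrp.Action G X)
    (x : ↥X.left) (h : ∀ t : ↥(G ⊗ X).left, (snd G X).left t = x → x ⤳ a.act.left t) :
    ⇑a.act.left ⁻¹' closure {x} = ⇑(snd G X).left ⁻¹' closure {x} := by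
  have ho : IsOpenMap (snd G X).left := by
    haveI : UniversallyOpen (Limits.pullback.snd G.hom X.hom) :=
      MorphismProperty.pullback_snd (P := @UniversallyOpen) _ _ inferInstance
    exact (Limits.pullback.snd G.hom X.hom).isOpenMap
  have hle : ∀ t : ↥(G ⊗ X).left, (snd G X).left t ∈ closure {x} → a.act.left t ∈ closure {x} := by
    intro t ht
    have h1 : t ∈ closure (⇑(snd G X).left ⁻¹' {x}) := by
      rw [← ho.preimage_closure_eq_closure_preimage (snd G X).left.continuous]
      exact ht
    refine closure_minimal ?_ (isClosed_closure.preimage a.act.left.continuous) h1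
    intro u hu
    exact specializes_iff_mem_closure.1 (h u hu)
  let θ : G ⊗ X ⟶ G ⊗ X := lift (fst G X)⁻¹ a.act
  have hθ1 : θ ≫ a.act = snd G X := by
    have e : a.act = lift (fst G X) (snd G X) ≫ a.act := by rw [lift_fst_snd, Category.id_comp]
    show lift (fst G X)⁻¹ a.act ≫ a.act = snd G X
    conv_lhs => arg 1; arg 2; rw [e]
    rw [← AlgGrp.Action.lift_mul_act, inv_mul_cancel, AlgGrp.Action.lift_one_act]
  have hθ2 : θ ≫ snd G X = a.act := lift_snd _ _
  ext t
  refine ⟨fun ht => ?_, fun ht => hle t ht⟩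
  have h2 := hle (θ.left t) (by rw [← Scheme.Hom.comp_apply, ← Over.comp_left, hθ2]; exact ht)
  rwa [← Scheme.Hom.comp_apply, ← Over.comp_left, hθ1] at h2

theorem isReduced_of_flat_preimmersion {P T : Scheme.{u}} (r : P ⟶ T) [Flat r] [IsPreimmersion r] [IsReduced T] :
    IsReduced P := by
  haveI : ∀ x : P, _root_.IsReduced (P.presheaf.stalk x) := fun x => by
    have hsurj := r.stalkMap_surjective x
    have hinj : Function.Injective (r.stalkMap x).hom := by
      algebraize [(r.stalkMap x).hom]
      haveI : Module.Flat (T.presheaf.stalk (r x)) (P.presheaf.stalk x) := Flat.stalkMap r x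
      haveI : IsLocalHom (algebraMap (T.presheaf.stalk (r x)) (P.presheaf.stalk x)) :=
        inferInstanceAs (IsLocalHom (r.stalkMap x).hom)
      haveI := Module.FaithfullyFlat.of_flat_of_isLocalHom (A := T.presheaf.stalk (r x)) (B := P.presheaf.stalk x)
      exact FaithfulSMul.algebraMap_injective _ _
    exact isReduced_of_injective (RingEquiv.ofBijective _ ⟨hinj, hsurj⟩).symm (RingEquiv.injective _)
  exact @isReduced_of_isReduced_stalk P this

theorem isIso_residueFieldMap_preimmersion {P T : Scheme.{u}} (r : P ⟶ T) [IsPreimmersion r] (x : P) :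
    IsIso (r.residueFieldMap x) :=
  (ConcreteCategory.isIso_iff_bijective _).2 ⟨RingHom.injective _, fun t => by
    obtain ⟨s, rfl⟩ := P.residue_surjective x t
    obtain ⟨a, rfl⟩ := r.stalkMap_surjective x s
    exact ⟨T.residue (r x) a, congrArg (fun m : T.presheaf.stalk (r x) ⟶ P.residueField x => m a)
      (Scheme.residue_residueFieldMap r x)⟩⟩

/-- The fibres of a torsor under a connected smooth group have generic points with geometrically reduced
residue fields. -/
theorem exists_generic [GeometricallyIrreducible G.hom] [UniversallyOpen G.hom] [Smooth G.hom]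
    {B Q : Over (Spec (CommRingCat.of k))} (c : AlgGrp.Action G B) (q : B ⟶ Q) (hq : GIT.IsInvariant c q)
    [IsIso (GIT.PsiY c q hq)] [Surjective q.left] [Flat q.left] [QuasiCompact q.left] (w : ↥Q.left) :
    ∃ z : ↥B.left, q.left z = w ∧ (∀ z', q.left z' = w → z ⤳ z') ∧
      GeometricallyReduced (Spec.map (q.left.residueFieldMap z)) := by
  have sq := AlgGrpLib.TorsorMap.isPullback_of_isIso_psiY c q hq
  haveI hsmG : Smooth (Limits.pullback.snd G.hom B.hom) := MorphismProperty.pullback_snd (P := @Smooth) _ _ inferInstance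
  haveI : Smooth q.left := by
    haveI : MorphismProperty.DescendsAlong @Smooth Et18.FPQC.{u} :=
      inferInstanceAs (MorphismProperty.DescendsAlong @Smooth (@Surjective ⊓ @Flat ⊓ @QuasiCompact))
    exact MorphismProperty.of_isPullback_of_descendsAlong (P := @Smooth) sq.flip
      (show (@Surjective ⊓ @Flat ⊓ @QuasiCompact : MorphismProperty Scheme.{u}) q.left from ⟨⟨inferInstance, inferInstance⟩, inferInstance⟩) hsmG
  obtain ⟨z₁, hz₁⟩ := q.left.surjective w
  have hirr : IsIrreducible (⇑q.left ⁻¹' {w}) := by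
    have h1 : IsIrreducible (⇑(Limits.pullback.snd G.hom B.hom) ⁻¹' {z₁}) := by
      haveI : GeometricallyIrreducible (Limits.pullback.snd G.hom B.hom) :=
        MorphismProperty.pullback_snd (P := @GeometricallyIrreducible) _ _ inferInstance
      haveI : UniversallyOpen (Limits.pullback.snd G.hom B.hom) :=
        MorphismProperty.pullback_snd (P := @UniversallyOpen) _ _ inferInstance
      exact (Limits.pullback.snd G.hom B.hom).isIrreducible_preimage (Limits.pullback.snd G.hom B.hom).isOpenMap
        isIrreducible_singleton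
    have h2 : ⇑c.act.left '' (⇑(Limits.pullback.snd G.hom B.hom) ⁻¹' {z₁}) = ⇑q.left ⁻¹' {w} := by
      ext z
      constructor
      · rintro ⟨t, ht, rfl⟩
        show q.left (c.act.left t) = w
        rw [← Scheme.Hom.comp_apply, sq.w, Scheme.Hom.comp_apply]
        exact (congrArg q.left ht).trans hz₁
      · intro hz
        obtain ⟨t, ht1, ht2⟩ := exists_point sq z z₁ (hz.trans hz₁.symm)
        exact ⟨t, ht2, ht1⟩
    exact h2 ▸ h1.image _ c.act.left.continuous.continuousOn
  let T := q.left.fiber w
  let sT := q.left.fiberToSpecResidueField w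
  haveI : IrreducibleSpace ↥T := by
    haveI : IrreducibleSpace ↥(⇑q.left ⁻¹' {w} : Set ↥B.left) :=
      (irreducibleSpace_def _).2 <| by
        refine ⟨⟨⟨z₁, hz₁⟩, trivial⟩, fun U V hU hV hUne hVne => ?_⟩
        obtain ⟨U', hU', rfl⟩ := hU
        obtain ⟨V', hV', rfl⟩ := hV
        obtain ⟨⟨a, ha⟩, -, haU⟩ := hUne
        obtain ⟨⟨b, hb⟩, -, hbV⟩ := hVne
        obtain ⟨d, hd, hdU, hdV⟩ := hirr.2 U' V' hU' hV' ⟨a, ha, haU⟩ ⟨b, hb, hbV⟩
        exact ⟨⟨d, hd⟩, trivial, hdU, hdV⟩
    exact (q.left.fiberHomeo w).symm.surjective.irreducibleSpace (q.left.fiberHomeo w).symm.continuous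
  haveI : Smooth sT := MorphismProperty.pullback_snd (P := @Smooth) _ _ inferInstance
  haveI : IsReduced T := AbSchLib.isReduced_of_smooth sT
  haveI : IsIntegral T := isIntegral_of_irreducibleSpace_of_isReduced T
  let gp := genericPoint ↥T
  refine ⟨q.left.fiberι w gp, ?_, fun z' hz' => ?_, ?_⟩
  · exact (q.left.range_fiberι w).le ⟨gp, rfl⟩
  · obtain ⟨t, rfl⟩ := (q.left.range_fiberι w).ge (show z' ∈ ⇑q.left ⁻¹' {w} from hz')
    exact ((genericPoint_spec ↥T).specializes trivial).map (q.left.fiberι w).continuous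
  let jgp := T.fromSpecResidueField gp
  haveI : Flat jgp := by
    haveI : IsIso (T.residue gp) := (ConcreteCategory.isIso_iff_bijective _).2
      ⟨RingHom.injective (T.residue gp).hom, T.residue_surjective gp⟩
    haveI := AbSchLib.flat_fromSpecStalk gp
    show Flat (Spec.map (T.residue gp) ≫ T.fromSpecStalk gp)
    infer_instance
  haveI : GeometricallyReduced (jgp ≫ sT) := by
    refine ⟨fun K _ y P fst snd h => ?_⟩
    haveI : Smooth (Limits.pullback.snd sT y) := MorphismProperty.pullback_snd (P := @Smooth) _ _ inferInstance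
    haveI : IsReduced (pullback sT y) := AbSchLib.isReduced_of_smooth (Limits.pullback.snd sT y)
    let r := (IsPullback.of_hasPullback sT y).lift (fst ≫ jgp) snd (by rw [Category.assoc]; exact h.w)
    have hr : IsPullback fst r jgp (Limits.pullback.fst sT y) := by
      refine IsPullback.of_bot ?_ ((IsPullback.of_hasPullback sT y).lift_fst _ _ _).symm
        (IsPullback.of_hasPullback sT y)
      rw [(IsPullback.of_hasPullback sT y).lift_snd]
      exact h
    haveI : Flat r := MorphismProperty.of_isPullback (P := @Flat) hr inferInstance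
    haveI : IsPreimmersion r := MorphismProperty.of_isPullback (P := @IsPreimmersion) hr inferInstance
    exact isReduced_of_flat_preimmersion r
  have hB : q.left (q.left.fiberι w gp) = w := (q.left.range_fiberι w).le ⟨gp, rfl⟩
  haveI : IsIso ((q.left.fiberι w).residueFieldMap gp) := isIso_residueFieldMap_preimmersion _ gp
  have e : Spec.map ((q.left.fiberι w).residueFieldMap gp) ≫ Spec.map (q.left.residueFieldMap (q.left.fiberι w gp)) ≫
      Spec.map (Q.left.residueFieldCongr hB).inv = jgp ≫ sT := by
    rw [← cancel_mono (Q.left.fromSpecResidueField w)]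
    simp only [Category.assoc, Scheme.residueFieldCongr_inv, Scheme.residueFieldCongr_fromSpecResidueField,
      Scheme.Hom.SpecMap_residueFieldMap_fromSpecResidueField]
    rw [Scheme.Hom.SpecMap_residueFieldMap_fromSpecResidueField_assoc, q.left.fiber_fac w]
  have hgr : GeometricallyReduced (Spec.map ((q.left.fiberι w).residueFieldMap gp) ≫
      Spec.map (q.left.residueFieldMap (q.left.fiberι w gp)) ≫ Spec.map (Q.left.residueFieldCongr hB).inv) := by
    rw [e]; infer_instance
  rw [MorphismProperty.cancel_left_of_respectsIso @GeometricallyReduced,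
    MorphismProperty.cancel_right_of_respectsIso @GeometricallyReduced] at hgr
  exact hgr

end Groth.Agent.EqInt24
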