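import Groth.Prelude.Def_W4bk4git07Quot
import Groth.Prelude.Def_ActBC
import Groth.Agent.AlgGrpLib.StabDim
import Groth.Agent.GrpQLib.GraphImage
import Groth.Agent.S4806
import Groth.Agent.S0353
import Groth.Agent.AbSchLib.SmoothReduced
import Mathlib.AlgebraicGeometry.ZariskisMainTheorem

/-! Stabilisers and freeness of an action. -/

set_option autoImplicit false
set_option backward.isDefEq.respectTransparency.types false

universe u

open CategoryTheory Limits MonoidalCategory CartesianMonoidalCategory MonObj GrpObj AlgebraicGeometry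

open Groth.Agent.AlgGrpLib

namespace Groth.Agent.EqInt24

variable {S : Scheme.{u}} {G X : Over S} [GrpObj G] (a : AlgGrp.Action G X)

theorem psi_id : GIT.psi a (𝟙 X) = lift a.act (snd G X) := by
  simp [GIT.psi]

/-- The stabiliser scheme over `X`. -/
noncomputable abbrev stabMap :=
  Limits.pullback.snd (GIT.psi a (𝟙 X)).left (lift (𝟙 X) (𝟙 X)).left

/-- The unit section. -/
noncomputable def unitSec : X.left ⟶ Limits.pullback (GIT.psi a (𝟙 X)).left (lift (𝟙 X) (𝟙 X)).left :=
  Limits.pullback.lift (lift (1 : X ⟶ G) (𝟙 X)).left (𝟙 X.left) (by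
    rw [Category.id_comp, ← Over.comp_left, psi_id, comp_lift, lift_snd, one_act'])

theorem unitSec_snd : unitSec a ≫ stabMap a = 𝟙 _ := Limits.pullback.lift_snd _ _ _

theorem mono_psi (h : IsIso (stabMap a)) : Mono (GIT.psi a (𝟙 X)) := by
  refine ⟨fun {T} u v huv => ?_⟩
  rw [psi_id, comp_lift, comp_lift] at huv
  have hx : u ≫ snd G X = v ≫ snd G X := by
    have := congrArg (· ≫ snd X X) huv
    simpa using this
  have ha : u ≫ a.act = v ≫ a.act := by
    have := congrArg (· ≫ fst X X) huv
    simpa using this
  rw [GrpQLib.eq_comp a u, GrpQLib.eq_comp a v, ← hx] at ha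
  have hw : lift ((u ≫ fst G X)⁻¹ * (v ≫ fst G X)) (u ≫ snd G X) ≫ GIT.psi a (𝟙 X) =
      (u ≫ snd G X) ≫ lift (𝟙 X) (𝟙 X) := by
    rw [psi_id, comp_lift, comp_lift, lift_snd, GrpQLib.inv_mul_act a _ _ _ ha, Category.comp_id]
  let w' : T.left ⟶ Limits.pullback (GIT.psi a (𝟙 X)).left (lift (𝟙 X) (𝟙 X)).left :=
    Limits.pullback.lift (lift ((u ≫ fst G X)⁻¹ * (v ≫ fst G X)) (u ≫ snd G X)).left (u ≫ snd G X).left
      (congrArg CommaMorphism.left hw)
  have he : w' = (u ≫ snd G X).left ≫ unitSec a := by
    haveI := h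
    rw [← cancel_mono (stabMap a), Category.assoc, unitSec_snd, Category.comp_id]
    exact Limits.pullback.lift_snd _ _ _
  have hl : lift ((u ≫ fst G X)⁻¹ * (v ≫ fst G X)) (u ≫ snd G X) = (u ≫ snd G X) ≫ lift (1 : X ⟶ G) (𝟙 X) := by
    refine Over.OverMorphism.ext ?_
    have := congrArg (· ≫ Limits.pullback.fst (GIT.psi a (𝟙 X)).left (lift (𝟙 X) (𝟙 X)).left) he
    simp only [w', unitSec, Category.assoc, Limits.pullback.lift_fst] at this
    exact this
  have h1 := congrArg (· ≫ fst G X) hl
  simp only [lift_fst, Category.assoc, MonObj.comp_one] at h1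
  have h2 : u ≫ fst G X = v ≫ fst G X := inv_mul_eq_one.mp h1
  calc u = lift (u ≫ fst G X) (u ≫ snd G X) := by rw [← comp_lift, lift_fst_snd, Category.comp_id]
    _ = lift (v ≫ fst G X) (v ≫ snd G X) := by rw [h2, hx]
    _ = v := by rw [← comp_lift, lift_fst_snd, Category.comp_id]

variable {k : Type u} [Field k] {G X : Over (Spec (CommRingCat.of k))} [GrpObj G] (a : AlgGrp.Action G X)

theorem isClosedImmersion_psi [IsAffine G.left] [LocallyOfFiniteType G.hom] [LocallyOfFiniteType X.hom]
    [QuasiCompact X.hom] [QuasiSeparated X.hom] (hp : IsProper (GIT.psi a (𝟙 X)).left)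
    (h : ∀ x : ↥X.left, IsIso ((stabMap a).fiberToSpecResidueField x)) :
    IsClosedImmersion (GIT.psi a (𝟙 X)).left := by
  haveI := hp
  haveI : IsLocallyNoetherian X.left := LocallyOfFiniteType.isLocallyNoetherian X.hom
  haveI : IsProper (stabMap a) := MorphismProperty.pullback_snd _ _ hp
  haveI : LocallyOfFinitePresentation (stabMap a) := inferInstance
  haveI : IsClosedImmersion (stabMap a) := (S4806.result (stabMap a)).mpr fun x => Or.inr (h x)
  haveI : IsSplitEpi (stabMap a) := IsSplitEpi.mk' ⟨unitSec a, unitSec_snd a⟩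
  haveI := mono_psi a (isIso_of_mono_of_isSplitEpi _)
  exact (IsClosedImmersion.iff_isProper_and_mono _).mpr ⟨hp, inferInstance⟩

/-- A field-valued section of a universally injective map from a reduced scheme is an isomorphism. -/
theorem isIso_of_reduced {H P : Scheme.{u}} (g : H ⟶ P) [UniversallyInjective g] [IsSeparated g] [IsReduced H]
    (e : P ⟶ H) (he : e ≫ g = 𝟙 P) : IsIso g := by
  haveI : IsClosedImmersion (e ≫ g) := by rw [he]; infer_instance
  haveI : IsClosedImmersion e := IsClosedImmersion.of_comp e g
  haveI : Surjective e := ⟨fun z => ⟨g z, g.injective (by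
    show (e ≫ g) (g z) = g z
    rw [he]; rfl)⟩⟩
  haveI := isIso_of_isClosedImmersion_of_surjective e
  exact IsIso.of_isIso_fac_left he

theorem universallyInjective_of_fibres {A B : Scheme.{u}} (f : A ⟶ B)
    (h : ∀ b : B, IsIso (f.fiberToSpecResidueField b)) : UniversallyInjective f := by
  have ht := (tfae_universallyInjective f).out 1 0
  refine ht.mp ?_
  intro K hK g₁ g₂ hg
  obtain ⟨b, z, hz⟩ : ∃ (b : B) (z : Spec (CommRingCat.of K) ⟶ Spec (B.residueField b)),
      g₁ ≫ f = z ≫ B.fromSpecResidueField b :=
    ⟨_, Spec.map ((B.SpecToEquivOfField K (g₁ ≫ f)).2),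
      ((B.SpecToEquivOfField K).symm_apply_apply (g₁ ≫ f)).symm⟩
  haveI := h b
  have key : Limits.pullback.lift g₁ z hz = Limits.pullback.lift (f := f) (g := B.fromSpecResidueField b) g₂ z (hg.symm.trans hz) :=
    (cancel_mono (f.fiberToSpecResidueField b)).mp ((Limits.pullback.lift_snd _ _ _).trans (Limits.pullback.lift_snd _ _ _).symm)
  have := congrArg (· ≫ Limits.pullback.fst f (B.fromSpecResidueField b)) key
  rwa [Limits.pullback.lift_fst, Limits.pullback.lift_fst] at this

theorem isIso_fibre [IsAffine G.left] [LocallyOfFiniteType G.hom] [LocallyOfFiniteType X.hom]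
    [IsSeparated X.hom] (hG : CharZero k ∨ (IsFinite G.hom ∧ Etale G.hom)) [UniversallyInjective (stabMap a)]
    (x : ↥X.left) : IsIso ((stabMap a).fiberToSpecResidueField x) := by
  haveI : IsClosedImmersion (lift (𝟙 X) (𝟙 X)).left := by
    haveI : IsSplitMono (lift (𝟙 X) (𝟙 X)).left := IsSplitMono.mk' ⟨(fst X X).left, by
      rw [← Over.comp_left, lift_fst]; rfl⟩
    haveI : IsClosedImmersion ((lift (𝟙 X) (𝟙 X)).left ≫ (fst X X).left) := by
      rw [← Over.comp_left, lift_fst]; exact inferInstanceAs (IsClosedImmersion (𝟙 X.left))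
    haveI : IsSeparated (fst X X).left := inferInstanceAs (IsSeparated (Limits.pullback.fst X.hom X.hom))
    exact IsClosedImmersion.of_comp _ (fst X X).left
  let e₀ : Spec (X.left.residueField x) ⟶ (stabMap a).fiber x :=
    Limits.pullback.lift (X.left.fromSpecResidueField x ≫ unitSec a) (𝟙 _) (by
      rw [Category.assoc, unitSec_snd, Category.comp_id, Category.id_comp])
  haveI : UniversallyInjective ((stabMap a).fiberToSpecResidueField x) :=
    MorphismProperty.pullback_snd _ _ ‹UniversallyInjective (stabMap a)›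
  have hsnd : stabMap a = Limits.pullback.fst (GIT.psi a (𝟙 X)).left (lift (𝟙 X) (𝟙 X)).left ≫ (snd G X).left := by
    have := congrArg (· ≫ (snd X X).left)
      (Limits.pullback.condition (f := (GIT.psi a (𝟙 X)).left) (g := (lift (𝟙 X) (𝟙 X)).left))
    rw [Category.assoc, Category.assoc, ← Over.comp_left, ← Over.comp_left,
      show GIT.psi a (𝟙 X) ≫ snd X X = snd G X from lift_snd _ _, lift_snd] at this
    exact (this.trans (Category.comp_id _)).symm
  haveI : IsAffineHom G.hom := inferInstance
  haveI : IsAffineHom (snd G X).left := MorphismProperty.pullback_snd G.hom X.hom ‹IsAffineHom G.hom›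
  haveI : LocallyOfFiniteType (snd G X).left := inferInstanceAs (LocallyOfFiniteType (Limits.pullback.snd G.hom X.hom))
  haveI : IsSeparated (stabMap a) := by rw [hsnd]; infer_instance
  haveI : LocallyOfFiniteType (stabMap a) := by rw [hsnd]; infer_instance
  haveI : IsSeparated ((stabMap a).fiberToSpecResidueField x) :=
    MorphismProperty.pullback_snd _ _ ‹IsSeparated (stabMap a)›
  haveI : IsReduced ((stabMap a).fiber x) := by
    rcases hG with h0 | ⟨hfin, het⟩
    · obtain ⟨N, _, j, -, -, hpb⟩ := AlgGrpLib.StabDim.exists_stab_scheme a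
      rw [← psi_id] at hpb
      let io := hpb.isoPullback
      have hι : io.hom ≫ stabMap a = N.hom := hpb.isoPullback_hom_snd
      let H := (Over.pullback (X.left.fromSpecResidueField x)).obj N
      letI : GrpObj H := Red.grpObj_bc _ N
      haveI : LocallyOfFiniteType N.hom := by rw [← hι]; infer_instance
      haveI : LocallyOfFiniteType H.hom :=
        MorphismProperty.pullback_snd _ _ ‹LocallyOfFiniteType N.hom›
      haveI : CharZero (X.left.residueField x) := by
        let φ := ((Spec.preimage (X.left.fromSpecResidueField x ≫ X.hom)).hom : k →+* X.left.residueField x)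
        exact charZero_of_injective_ringHom φ.injective
      haveI := S0353.result (X.left.residueField x) H
      haveI : IsReduced H.left := AbSchLib.isReduced_of_smooth H.hom
      let m : Limits.pullback N.hom (X.left.fromSpecResidueField x) ⟶ (stabMap a).fiber x :=
        Limits.pullback.map _ _ _ _ io.hom (𝟙 _) (𝟙 _) (by simpa using hι.symm) (by simp)
      haveI : IsIso m := Limits.pullback.map_isIso _ _ _ _ _ _ _ _ _
      haveI : IsReduced (Limits.pullback N.hom (X.left.fromSpecResidueField x)) := ‹IsReduced H.left›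
      exact isReduced_of_isOpenImmersion (CategoryTheory.inv m)
    · haveI := het
      haveI : FormallyUnramified (snd G X).left := inferInstanceAs (FormallyUnramified (Limits.pullback.snd G.hom X.hom))
      haveI : IsClosedImmersion (Limits.pullback.fst (GIT.psi a (𝟙 X)).left (lift (𝟙 X) (𝟙 X)).left) :=
        MorphismProperty.pullback_fst _ _ ‹IsClosedImmersion (lift (𝟙 X) (𝟙 X)).left›
      haveI : FormallyUnramified (stabMap a) := by
        rw [hsnd]
        exact MorphismProperty.comp_mem @FormallyUnramified _ _ inferInstance inferInstance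
      haveI : FormallyUnramified ((stabMap a).fiberToSpecResidueField x) :=
        MorphismProperty.pullback_snd _ _ ‹FormallyUnramified (stabMap a)›
      haveI : LocallyOfFiniteType ((stabMap a).fiberToSpecResidueField x) :=
        MorphismProperty.pullback_snd _ _ ‹LocallyOfFiniteType (stabMap a)›
      have he₀ : e₀ ≫ (stabMap a).fiberToSpecResidueField x = 𝟙 _ := Limits.pullback.lift_snd _ _ _
      haveI : IsOpenImmersion (e₀ ≫ (stabMap a).fiberToSpecResidueField x) := by
        rw [he₀]; infer_instance
      haveI : MorphismProperty.HasOfPostcompProperty @IsOpenImmersion (@FormallyUnramified ⊓ @LocallyOfFiniteType) := by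
        rw [MorphismProperty.hasOfPostcompProperty_iff_le_diagonal]
        intro A B g hg
        haveI := hg.1
        haveI := hg.2
        exact inferInstanceAs (IsOpenImmersion (Limits.pullback.diagonal g))
      haveI : IsOpenImmersion e₀ :=
        MorphismProperty.of_postcomp (W := @IsOpenImmersion) (W' := @FormallyUnramified ⊓ @LocallyOfFiniteType)
          e₀ ((stabMap a).fiberToSpecResidueField x) ⟨inferInstance, inferInstance⟩ ‹_›
      haveI : Surjective e₀ := ⟨fun z => ⟨((stabMap a).fiberToSpecResidueField x) z,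
        ((stabMap a).fiberToSpecResidueField x).injective (Subsingleton.elim _ _)⟩⟩
      haveI : IsIso e₀ := @IsOpenImmersion.isIso _ _ e₀ _ ((TopCat.epi_iff_surjective _).mpr e₀.surjective)
      exact isReduced_of_isOpenImmersion (CategoryTheory.inv e₀)
  exact isIso_of_reduced _ e₀ (Limits.pullback.lift_snd _ _ _)

end Groth.Agent.EqInt24
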