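import Groth.Agent.S16133
import Groth.Agent.Stk19b.Quot.Basic
import Groth.Agent.AlgGrpLib.TorsorMap
import Groth.Prelude.Def_W4bk4git07Quot
import Groth.Prelude.Def_ChGrp
import Mathlib.AlgebraicGeometry.RelativeGluing
import Mathlib.AlgebraicGeometry.Morphisms.Flat

/-!
# The associated bundle of a Zariski locally trivial principal bundle
-/

set_option autoImplicit false
set_option backward.isDefEq.respectTransparency.types false
set_option linter.unusedSectionVars false

universe u

open CategoryTheory CategoryTheory.Limits MonoidalCategory CartesianMonoidalCategory MonObj AlgebraicGeometry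

noncomputable section

namespace Groth.Agent.EqInt24.ZarQuot

section Opn

variable {S : Scheme.{u}}

/-- An open subscheme over the base. -/
abbrev opn (A : Over S) (V : A.left.Opens) : Over S := Over.mk (V.ι ≫ A.hom)

/-- Its inclusion. -/
abbrev opI (A : Over S) (V : A.left.Opens) : opn A V ⟶ A := Over.homMk V.ι rfl

/-- Inclusions between opens. -/
abbrev opR (A : Over S) {V V' : A.left.Opens} (h : V ≤ V') : opn A V ⟶ opn A V' :=
  Over.homMk (A.left.homOfLE h) (by simp)

theorem opR_opI (A : Over S) {V V' : A.left.Opens} (h : V ≤ V') : opR A h ≫ opI A V' = opI A V :=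
  Over.OverMorphism.ext (A.left.homOfLE_ι h)

theorem opI_cancel (A : Over S) {V : A.left.Opens} {T : Over S} {f g : T ⟶ opn A V}
    (h : f ≫ opI A V = g ≫ opI A V) : f = g :=
  Over.OverMorphism.ext ((cancel_mono V.ι).1 (congrArg CommaMorphism.left h))

theorem exists_opLift (A : Over S) {V : A.left.Opens} {T : Over S} (f : T ⟶ A)
    (h : ∀ t, f.left.base t ∈ V) : ∃ g : T ⟶ opn A V, g ≫ opI A V = f := by
  have hr : Set.range f.left.base ⊆ Set.range V.ι.base := by
    rw [Scheme.Opens.range_ι]; rintro _ ⟨t, rfl⟩; exact h t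
  refine ⟨Over.homMk (IsOpenImmersion.lift V.ι f.left hr) ?_, Over.OverMorphism.ext (IsOpenImmersion.lift_fac _ _ _)⟩
  show IsOpenImmersion.lift V.ι f.left hr ≫ V.ι ≫ A.hom = T.hom
  rw [IsOpenImmersion.lift_fac_assoc, Over.w f]

/-- Morphisms agree when they agree on an open cover. -/
theorem hom_ext_cover {A B : Over S} {Ix : Type u} (V : Ix → A.left.Opens) (hV : ∀ a, ∃ i, a ∈ V i)
    {f g : A ⟶ B} (h : ∀ i, opI A (V i) ≫ f = opI A (V i) ≫ g) : f = g := by
  have hc : TopologicalSpace.IsOpenCover V := TopologicalSpace.IsOpenCover.mk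
    (eq_top_iff.2 fun a _ => TopologicalSpace.Opens.mem_iSup.2 (hV a))
  exact Over.OverMorphism.ext ((A.left.openCoverOfIsOpenCover V hc).hom_ext _ _
    fun i => congrArg CommaMorphism.left (h i))

end Opn

variable {k : Type u} [Field k] {G X U B : Over (Spec (CommRingCat.of k))} [GrpObj G]
  (a : AlgGrp.Action G X) (b : AlgGrp.Action G U) (π : U ⟶ B) (hinv : GIT.IsInvariant b π)
  [IsIso (GIT.PsiY b π hinv)]

local notation "T" => Over (Spec (CommRingCat.of k))

include hinv in
theorem existsUnique_div {W : T} (u₁ u₂ : W ⟶ U) (h : u₂ ≫ π = u₁ ≫ π) :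
    ∃! g : W ⟶ G, lift g u₂ ≫ b.act = u₁ :=
  S16133.existsUnique_transl b π (AlgGrpLib.TorsorMap.isPullback_of_isIso_psiY b π hinv) u₂ u₁ h

/-- The group element carrying `u₂` to `u₁`. -/
def dv {W : T} (u₁ u₂ : W ⟶ U) (h : u₂ ≫ π = u₁ ≫ π) : W ⟶ G := (existsUnique_div b π hinv u₁ u₂ h).choose

theorem dv_act {W : T} (u₁ u₂ : W ⟶ U) (h : u₂ ≫ π = u₁ ≫ π) : lift (dv b π hinv u₁ u₂ h) u₂ ≫ b.act = u₁ :=
  (existsUnique_div b π hinv u₁ u₂ h).choose_spec.1

theorem dv_unique {W : T} (u₁ u₂ : W ⟶ U) (h : u₂ ≫ π = u₁ ≫ π) (g : W ⟶ G) (hg : lift g u₂ ≫ b.act = u₁) :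
    dv b π hinv u₁ u₂ h = g :=
  (existsUnique_div b π hinv u₁ u₂ h).unique (dv_act b π hinv u₁ u₂ h) hg

/-- The opens of the base carrying a section. -/
def Idx : Type u := {W : B.left.Opens // ∃ s : opn B W ⟶ U, s ≫ π = opI B W}

instance : Preorder (Idx π) := inferInstanceAs (Preorder {W : B.left.Opens // ∃ s : opn B W ⟶ U, s ≫ π = opI B W})

/-- The chosen section. -/
def sec (i : Idx π) : opn B i.1 ⟶ U := i.2.choose

theorem sec_π (i : Idx π) : sec π i ≫ π = opI B i.1 := i.2.choose_spec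

theorem exists_idx_of_le (i : Idx π) {V : B.left.Opens} (h : V ≤ i.1) : ∃ j : Idx π, j.1 = V :=
  ⟨⟨V, opR B h ≫ sec π i, by rw [Category.assoc, sec_π, opR_opI]⟩, rfl⟩

/-- The comparison of two sections. -/
def sh {i j : Idx π} (h : i ≤ j) : opn B i.1 ⟶ G :=
  dv b π hinv (opR B h ≫ sec π j) (sec π i) (by rw [Category.assoc, sec_π, sec_π, opR_opI])

theorem sh_act {i j : Idx π} (h : i ≤ j) : lift (sh b π hinv h) (sec π i) ≫ b.act = opR B h ≫ sec π j :=
  dv_act b π hinv _ _ _

theorem sh_refl (i : Idx π) : sh b π hinv (le_refl i) = 1 := by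
  refine dv_unique b π hinv _ _ _ _ ?_
  rw [S16133.act_one]
  have : opR B (le_refl i.1) = 𝟙 (opn B i.1) := opI_cancel B (by rw [opR_opI, Category.id_comp])
  rw [this, Category.id_comp]

theorem sh_comp {i j l : Idx π} (h₁ : i ≤ j) (h₂ : j ≤ l) :
    sh b π hinv (h₁.trans h₂) = (opR B h₁ ≫ sh b π hinv h₂) * sh b π hinv h₁ := by
  refine dv_unique b π hinv _ _ _ _ ?_
  rw [S16133.act_mul, sh_act, ← comp_lift_assoc, sh_act, ← Category.assoc]
  congr 1
  exact opI_cancel B (by rw [Category.assoc, opR_opI, opR_opI, opR_opI])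

/-- The transition maps. -/
def tmap {i j : Idx π} (h : i ≤ j) : X ⊗ opn B i.1 ⟶ X ⊗ opn B j.1 :=
  lift (lift (snd X (opn B i.1) ≫ sh b π hinv h) (fst X (opn B i.1)) ≫ a.act) (snd X (opn B i.1) ≫ opR B h)

theorem tmap_refl (i : Idx π) : tmap a b π hinv (le_refl i) = 𝟙 _ := by
  have hR : opR B (le_refl i.1) = 𝟙 (opn B i.1) := opI_cancel B (by rw [opR_opI, Category.id_comp])
  apply CartesianMonoidalCategory.hom_ext
  · rw [tmap, lift_fst, sh_refl, Category.id_comp, Hom.one_def, ← Category.assoc, comp_toUnit, ← Hom.one_def,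
      S16133.act_one]
  · rw [tmap, lift_snd, hR, Category.comp_id, Category.id_comp]

theorem tmap_comp {i j l : Idx π} (h₁ : i ≤ j) (h₂ : j ≤ l) :
    tmap a b π hinv (h₁.trans h₂) = tmap a b π hinv h₁ ≫ tmap a b π hinv h₂ := by
  apply CartesianMonoidalCategory.hom_ext
  · rw [tmap, lift_fst, Category.assoc, tmap, tmap, lift_fst, comp_lift_assoc, lift_fst, lift_snd_assoc,
      Category.assoc, ← S16133.act_mul, sh_comp b π hinv h₁ h₂, MonObj.comp_mul]
  · rw [tmap, lift_snd, Category.assoc, tmap, tmap, lift_snd, lift_snd_assoc, Category.assoc]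
    congr 1
    exact opI_cancel B (by rw [Category.assoc, opR_opI, opR_opI, opR_opI])

variable (hzar : ∀ y : ↥B.left, ∃ i : Idx π, y ∈ i.1)

/-- The cover of the base by opens with a section. -/
def cov : B.left.OpenCover where
  I₀ := Idx π
  X i := i.1
  f i := i.1.ι
  mem₀ := by
    rw [Scheme.presieve₀_mem_precoverage_iff]
    refine ⟨fun x => ?_, inferInstance⟩
    obtain ⟨i, hi⟩ := hzar x
    exact ⟨i, by simpa using hi⟩

instance : Preorder (cov π hzar).I₀ := inferInstanceAs (Preorder (Idx π))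

instance : (cov π hzar).LocallyDirected :=
  .ofIsBasisOpensRange (by intros; simp [cov]; rfl) (by
    refine TopologicalSpace.Opens.isBasis_iff_nbhd.mpr fun {V x} hx => ?_
    obtain ⟨i, hi⟩ := hzar x
    obtain ⟨j, hj⟩ := exists_idx_of_le π i (inf_le_left : i.1 ⊓ V ≤ i.1)
    refine ⟨_, ⟨j, rfl⟩, ?_, ?_⟩
    · simp only [cov, Scheme.Opens.opensRange_ι, hj]; exact ⟨hi, hx⟩
    · simp only [cov, Scheme.Opens.opensRange_ι, hj]; exact inf_le_right)

theorem cov_trans {i j : (cov π hzar).I₀} (h : i ⟶ j) :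
    (cov π hzar).trans h = (opR B (leOfHom h : (i : Idx π) ≤ j)).left := by
  have e := Scheme.Cover.trans_map (cov π hzar) h
  exact (cancel_mono (Scheme.Opens.ι (j : Idx π).1)).1 (e.trans (B.left.homOfLE_ι (leOfHom h : (i : Idx π) ≤ j)).symm)

theorem isPullback_tmap {i j : Idx π} (h : i ≤ j) :
    IsPullback (tmap a b π hinv h).left (snd X (opn B i.1)).left (snd X (opn B j.1)).left (opR B h).left := by
  let g := snd X (opn B i.1) ≫ sh b π hinv h
  let e : X ⊗ opn B i.1 ≅ X ⊗ opn B i.1 :=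
    { hom := lift (lift g (fst X (opn B i.1)) ≫ a.act) (snd X (opn B i.1))
      inv := lift (lift g⁻¹ (fst X (opn B i.1)) ≫ a.act) (snd X (opn B i.1))
      hom_inv_id := by
        apply CartesianMonoidalCategory.hom_ext
        · simp only [g, Category.assoc, lift_fst, comp_lift_assoc, GrpObj.comp_inv, lift_snd_assoc,
            Category.id_comp]
          rw [← S16133.act_mul, inv_mul_cancel, S16133.act_one]
        · simp
      inv_hom_id := by
        apply CartesianMonoidalCategory.hom_ext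
        · simp only [g, Category.assoc, lift_fst, comp_lift_assoc, lift_snd_assoc, Category.id_comp]
          rw [← S16133.act_mul, mul_inv_cancel, S16133.act_one]
        · simp }
  have he : tmap a b π hinv h = e.hom ≫ (X ◁ opR B h) := by
    apply CartesianMonoidalCategory.hom_ext <;> simp [e, tmap, g]
  haveI : IsIso e.hom.left := ((Over.forget _).mapIso e).isIso_hom
  have h1 : IsPullback e.hom.left (snd X (opn B i.1)).left (snd X (opn B i.1)).left (𝟙 _) := by
    refine IsPullback.of_horiz_isIso ⟨?_⟩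
    rw [Category.comp_id, ← Over.comp_left]
    simp [e]
  have h2 := h1.paste_horiz (AlgGrpLib.TorsorMap.isPullback_whiskerLeft (H := X) (opR B h))
  rw [Category.id_comp, ← Over.comp_left, ← he] at h2
  exact h2

/-- The relative gluing datum. -/
def datum : (cov π hzar).RelativeGluingData where
  functor :=
    { obj := fun i => (X ⊗ opn B (i : Idx π).1).left
      map := fun {i j} h => (tmap a b π hinv (leOfHom h : (i : Idx π) ≤ j)).left
      map_id := fun i => by rw [tmap_refl]; rfl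
      map_comp := fun {i j l} h₁ h₂ => by
        rw [← Over.comp_left, ← tmap_comp] }
  natTrans :=
    { app := fun i => (snd X (opn B (i : Idx π).1)).left
      naturality := fun i j h => by
        refine ((isPullback_tmap a b π hinv (leOfHom h : (i : Idx π) ≤ j)).w).trans ?_
        exact congrArg ((snd X (opn B (i : Idx π).1)).left ≫ ·) (cov_trans π hzar h).symm }
  equifibered := fun {i j} h => by
    have h1 := isPullback_tmap a b π hinv (leOfHom h : (i : Idx π) ≤ j)
    show IsPullback (tmap a b π hinv _).left (snd X (opn B (i : Idx π).1)).left _ ((cov π hzar).trans h)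
    rw [cov_trans π hzar h]
    exact h1

local notation "D" => datum a b π hinv hzar

/-- The quotient. -/
def Q : T := Over.mk ((datum a b π hinv hzar).toBase ≫ B.hom)

/-- The projection to the base. -/
def toB : Q a b π hinv hzar ⟶ B := Over.homMk (datum a b π hinv hzar).toBase rfl

/-- The charts. -/
def inj (i : Idx π) : X ⊗ opn B i.1 ⟶ Q a b π hinv hzar :=
  Over.homMk (colimit.ι (datum a b π hinv hzar).functor i) (by
    show colimit.ι _ _ ≫ (datum a b π hinv hzar).toBase ≫ B.hom = _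
    exact (Scheme.Cover.RelativeGluingData.ι_toBase_assoc (datum a b π hinv hzar) i B.hom).trans
      (Over.w (snd X (opn B i.1))))

instance (i : Idx π) : IsOpenImmersion (inj a b π hinv hzar i).left :=
  inferInstanceAs (IsOpenImmersion ((datum a b π hinv hzar).cover.f i))

theorem inj_toB (i : Idx π) : inj a b π hinv hzar i ≫ toB a b π hinv hzar = snd X (opn B i.1) ≫ opI B i.1 :=
  Over.OverMorphism.ext (Scheme.Cover.RelativeGluingData.ι_toBase (datum a b π hinv hzar) i)

theorem tmap_inj {i j : Idx π} (h : i ≤ j) :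
    tmap a b π hinv h ≫ inj a b π hinv hzar j = inj a b π hinv hzar i :=
  Over.OverMorphism.ext (colimit.w (datum a b π hinv hzar).functor (homOfLE h : (i : (cov π hzar).I₀) ⟶ j))

theorem inj_cancel {W : T} {i : Idx π} {f g : W ⟶ X ⊗ opn B i.1}
    (h : f ≫ inj a b π hinv hzar i = g ≫ inj a b π hinv hzar i) : f = g :=
  Over.OverMorphism.ext ((cancel_mono (inj a b π hinv hzar i).left).1 (congrArg CommaMorphism.left h))

/-- The image of a point over the chart `i`. -/
def pc {W : T} (i : Idx π) (x : W ⟶ X) (v : W ⟶ U) (β : W ⟶ opn B i.1) (hβ : β ≫ opI B i.1 = v ≫ π) :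
    W ⟶ X ⊗ opn B i.1 :=
  lift (lift (dv b π hinv (β ≫ sec π i) v (by rw [Category.assoc, sec_π, hβ])) x ≫ a.act) β

theorem comp_pc {W W' : T} (t : W' ⟶ W) (i : Idx π) (x : W ⟶ X) (v : W ⟶ U) (β : W ⟶ opn B i.1)
    (hβ : β ≫ opI B i.1 = v ≫ π) :
    t ≫ pc a b π hinv i x v β hβ = pc a b π hinv i (t ≫ x) (t ≫ v) (t ≫ β) (by simp [hβ]) := by
  rw [pc, pc, comp_lift, comp_lift_assoc]
  congr 3
  refine (dv_unique b π hinv _ _ _ _ ?_).symm
  rw [← comp_lift_assoc, dv_act, Category.assoc]

theorem pc_tmap {W : T} {i j : Idx π} (h : i ≤ j) (x : W ⟶ X) (v : W ⟶ U) (β : W ⟶ opn B i.1)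
    (hβ : β ≫ opI B i.1 = v ≫ π) :
    pc a b π hinv i x v β hβ ≫ tmap a b π hinv h =
      pc a b π hinv j x v (β ≫ opR B h) (by rw [Category.assoc, opR_opI, hβ]) := by
  apply CartesianMonoidalCategory.hom_ext
  · simp only [pc, tmap, Category.assoc, lift_fst, comp_lift_assoc, lift_snd_assoc]
    rw [← S16133.act_mul]
    congr 2
    refine (dv_unique b π hinv _ _ _ _ ?_).symm
    rw [S16133.act_mul, dv_act, ← comp_lift_assoc, sh_act]
  · simp [pc, tmap]

/-- The point of the quotient over the chart `i`. -/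
def pq {W : T} (i : Idx π) (x : W ⟶ X) (v : W ⟶ U) (β : W ⟶ opn B i.1) (hβ : β ≫ opI B i.1 = v ≫ π) :
    W ⟶ Q a b π hinv hzar :=
  pc a b π hinv i x v β hβ ≫ inj a b π hinv hzar i

theorem pq_indep {W : T} (i j : Idx π) (x : W ⟶ X) (v : W ⟶ U) (β : W ⟶ opn B i.1) (ct : W ⟶ opn B j.1)
    (hβ : β ≫ opI B i.1 = v ≫ π) (hct : ct ≫ opI B j.1 = v ≫ π) :
    pq a b π hinv hzar i x v β hβ = pq a b π hinv hzar j x v ct hct := by
  obtain ⟨l, hl⟩ := exists_idx_of_le π i (inf_le_left : i.1 ⊓ j.1 ≤ i.1)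
  have hli : l ≤ i := show l.1 ≤ i.1 from hl ▸ inf_le_left
  have hlj : l ≤ j := show l.1 ≤ j.1 from hl ▸ inf_le_right
  obtain ⟨δ, hδ⟩ := exists_opLift B (V := l.1) (v ≫ π) fun t => by
    rw [hl]
    refine ⟨?_, ?_⟩
    · rw [← hβ]; exact (β.left.base t).2
    · rw [← hct]; exact (ct.left.base t).2
  have e1 : δ ≫ opR B hli = β := opI_cancel B (by rw [Category.assoc, opR_opI, hδ, hβ])
  have e2 : δ ≫ opR B hlj = ct := opI_cancel B (by rw [Category.assoc, opR_opI, hδ, hct])
  subst e1 e2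
  simp only [pq]
  rw [← pc_tmap a b π hinv hli x v δ hδ, ← pc_tmap a b π hinv hlj x v δ hδ, Category.assoc, Category.assoc,
    tmap_inj, tmap_inj]

theorem comp_pq {W W' : T} (t : W' ⟶ W) (i : Idx π) (x : W ⟶ X) (v : W ⟶ U) (β : W ⟶ opn B i.1)
    (hβ : β ≫ opI B i.1 = v ≫ π) :
    t ≫ pq a b π hinv hzar i x v β hβ = pq a b π hinv hzar i (t ≫ x) (t ≫ v) (t ≫ β) (by simp [hβ]) := by
  rw [pq, pq, ← Category.assoc, comp_pc]

/-- The preimage of a chart in a scheme over the base. -/
def pre {W : T} (p : W ⟶ B) (i : Idx π) : W.left.Opens := p.left ⁻¹ᵁ i.1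

include hzar in
theorem mem_pre {W : T} (p : W ⟶ B) (w : W.left) : ∃ i, w ∈ pre π p i := hzar _

/-- Its map to the chart. -/
def preβ {W : T} (p : W ⟶ B) (i : Idx π) : opn W (pre π p i) ⟶ opn B i.1 :=
  (exists_opLift B (V := i.1) (opI W (pre π p i) ≫ p) fun t => t.2).choose

theorem preβ_opI {W : T} (p : W ⟶ B) (i : Idx π) : preβ π p i ≫ opI B i.1 = opI W (pre π p i) ≫ p :=
  (exists_opLift B (V := i.1) (opI W (pre π p i) ≫ p) fun t => t.2).choose_spec

theorem exists_rho : ∃ ρ : X ⊗ U ⟶ Q a b π hinv hzar,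
    ∀ (W : T) (p : W ⟶ X ⊗ U) (i : Idx π) (β : W ⟶ opn B i.1) (hβ : β ≫ opI B i.1 = (p ≫ snd X U) ≫ π),
      p ≫ ρ = pq a b π hinv hzar i (p ≫ fst X U) (p ≫ snd X U) β hβ := by
  let A := X ⊗ U
  let q : A ⟶ B := snd X U ≫ π
  let V := fun i => pre π q i
  let f : ∀ i, opn A (V i) ⟶ Q a b π hinv hzar := fun i =>
    pq a b π hinv hzar i (opI A (V i) ≫ fst X U) (opI A (V i) ≫ snd X U) (preβ π q i)
      ((preβ_opI π q i).trans (Category.assoc _ _ _).symm)
  have hc : TopologicalSpace.IsOpenCover V := TopologicalSpace.IsOpenCover.mk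
    (eq_top_iff.2 fun w _ => TopologicalSpace.Opens.mem_iSup.2 (mem_pre π hzar q w))
  let c := A.left.openCoverOfIsOpenCover V hc
  have hf : ∀ i j : Idx π, pullback.fst (c.f i) (c.f j) ≫ (f i).left = pullback.snd (c.f i) (c.f j) ≫ (f j).left := by
    intro i j
    let P : T := Over.mk (pullback.fst (c.f i) (c.f j) ≫ (opn A (V i)).hom)
    let p₁ : P ⟶ opn A (V i) := Over.homMk (pullback.fst (c.f i) (c.f j)) rfl
    let p₂ : P ⟶ opn A (V j) := Over.homMk (pullback.snd (c.f i) (c.f j)) (by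
      show pullback.snd (V i).ι (V j).ι ≫ (V j).ι ≫ A.hom = pullback.fst (V i).ι (V j).ι ≫ (V i).ι ≫ A.hom
      rw [← Category.assoc, ← pullback.condition, Category.assoc])
    have hp : p₁ ≫ opI A (V i) = p₂ ≫ opI A (V j) := Over.OverMorphism.ext pullback.condition
    have : p₁ ≫ f i = p₂ ≫ f j := by
      simp only [f, comp_pq, ← Category.assoc, hp]
      exact pq_indep a b π hinv hzar _ _ _ _ _ _ _ _
    exact congrArg CommaMorphism.left this
  let ρ₀ := c.glueMorphisms (fun i => (f i).left) hf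
  have hρ : ∀ i : Idx π, (V i).ι ≫ ρ₀ = (f i).left := fun i => c.ι_glueMorphisms _ hf i
  have hw : ρ₀ ≫ (Q a b π hinv hzar).hom = A.hom := c.hom_ext _ _ fun i => by
    rw [← Category.assoc]
    show ((V i).ι ≫ ρ₀) ≫ _ = _
    rw [hρ i]
    exact Over.w (f i)
  refine ⟨Over.homMk ρ₀ hw, fun W p i β hβ => ?_⟩
  · obtain ⟨p', hp'⟩ := exists_opLift A (V := V i) p fun t => by
      show (p ≫ q).left.base t ∈ i.1
      rw [show p ≫ q = β ≫ opI B i.1 from ((Category.assoc _ _ _).symm.trans hβ.symm)]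
      exact (β.left.base t).2
    have e : p' ≫ preβ π q i = β := opI_cancel B (by
      rw [Category.assoc, preβ_opI, hβ, ← Category.assoc, hp', Category.assoc])
    have e1 : p' ≫ f i = p ≫ Over.homMk ρ₀ hw := Over.OverMorphism.ext (by
      rw [← hp', Over.comp_left, Over.comp_left, Over.comp_left]
      show p'.left ≫ (f i).left = (p'.left ≫ (V i).ι) ≫ ρ₀
      rw [Category.assoc, hρ i])
    rw [← e1]
    simp only [f, comp_pq, ← Category.assoc, hp', e]

/-- The quotient map. -/
def rho : X ⊗ U ⟶ Q a b π hinv hzar := (exists_rho a b π hinv hzar).choose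

theorem comp_rho {W : T} (p : W ⟶ X ⊗ U) (i : Idx π) (β : W ⟶ opn B i.1)
    (hβ : β ≫ opI B i.1 = (p ≫ snd X U) ≫ π) :
    p ≫ rho a b π hinv hzar = pq a b π hinv hzar i (p ≫ fst X U) (p ≫ snd X U) β hβ :=
  (exists_rho a b π hinv hzar).choose_spec W p i β hβ

theorem rho_toB : rho a b π hinv hzar ≫ toB a b π hinv hzar = snd X U ≫ π := by
  refine hom_ext_cover (fun i => pre π (snd X U ≫ π) i) (mem_pre π hzar _) fun i => ?_
  have hb := preβ_opI π (snd X U ≫ π) i
  rw [← Category.assoc, comp_rho a b π hinv hzar _ i _ (hb.trans (Category.assoc _ _ _).symm), pq, Category.assoc,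
    inj_toB, ← Category.assoc, pc, lift_snd, hb]

theorem rho_invariant : GIT.IsInvariant (a.prod b) (rho a b π hinv hzar) := by
  let A := G ⊗ (X ⊗ U)
  let p₀ := snd G (X ⊗ U)
  let q : A ⟶ B := (p₀ ≫ snd X U) ≫ π
  refine hom_ext_cover (fun i => pre π q i) (mem_pre π hzar _) fun i => ?_
  let jj := opI A (pre π q i)
  let g := jj ≫ fst G (X ⊗ U)
  let v := jj ≫ p₀ ≫ snd X U
  let x := jj ≫ p₀ ≫ fst X U
  have hb : preβ π q i ≫ opI B i.1 = v ≫ π := by simp only [preβ_opI, v, q, jj, Category.assoc]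
  have hact : jj ≫ (a.prod b).act = lift (lift g x ≫ a.act) (lift g v ≫ b.act) := by
    have e : jj = lift g (jj ≫ p₀) := by
      apply CartesianMonoidalCategory.hom_ext <;> simp [g, p₀]
    rw [e, AlgGrp.Action.prod]
    apply CartesianMonoidalCategory.hom_ext <;>
      simp [x, v, lift_whiskerLeft_assoc, Category.assoc]
  have hgv : (lift g v ≫ b.act) ≫ π = v ≫ π := by
    rw [Category.assoc, show b.act ≫ π = snd G U ≫ π from hinv, lift_snd_assoc]
  show jj ≫ (a.prod b).act ≫ rho a b π hinv hzar = jj ≫ p₀ ≫ rho a b π hinv hzar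
  rw [← Category.assoc, hact, ← Category.assoc jj p₀,
    comp_rho a b π hinv hzar _ i (preβ π q i) (by rw [lift_snd, hgv, hb]),
    comp_rho a b π hinv hzar _ i (preβ π q i) (by rw [hb]; simp only [v, Category.assoc])]
  simp only [lift_fst, lift_snd, pq, pc, Category.assoc]
  congr 2
  show _ = lift (dv b π hinv (preβ π q i ≫ sec π i) v _) x ≫ a.act
  rw [← S16133.act_mul]
  congr 2
  refine (dv_unique b π hinv _ _ _ _ ?_).symm
  rw [S16133.act_mul, dv_act]

theorem isPullback_rho :
    IsPullback (a.prod b).act (snd G (X ⊗ U)) (rho a b π hinv hzar) (rho a b π hinv hzar) := by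
  refine Stk19b.Quot.isPullback_of_existsUnique _ _ (rho_invariant a b π hinv hzar) fun {W} p q hpq => ?_
  let u₁ := q ≫ snd X U
  let u₂ := p ≫ snd X U
  let x₁ := q ≫ fst X U
  let x₂ := p ≫ fst X U
  have hπ : u₂ ≫ π = u₁ ≫ π := by
    simp only [u₁, u₂, Category.assoc, ← rho_toB a b π hinv hzar]
    rw [← Category.assoc, ← hpq, Category.assoc]
  let g := dv b π hinv u₁ u₂ hπ
  have hg : lift g u₂ ≫ b.act = u₁ := dv_act b π hinv _ _ _
  have key : lift g x₂ ≫ a.act = x₁ := by
    refine hom_ext_cover (fun i => pre π (u₁ ≫ π) i) (mem_pre π hzar _) fun i => ?_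
    let jj := opI W (pre π (u₁ ≫ π) i)
    let β := preβ π (u₁ ≫ π) i
    have hb : β ≫ opI B i.1 = (jj ≫ u₁) ≫ π := (preβ_opI π _ i).trans (Category.assoc _ _ _).symm
    have hb' : β ≫ opI B i.1 = (jj ≫ u₂) ≫ π := hb.trans ((Category.assoc _ _ _).trans ((congrArg (jj ≫ ·) hπ.symm).trans (Category.assoc _ _ _).symm))
    have h := congrArg (jj ≫ ·) hpq
    simp only [← Category.assoc] at h
    rw [comp_rho a b π hinv hzar _ i β (by simpa only [u₁, Category.assoc] using hb),
      comp_rho a b π hinv hzar _ i β (by simpa only [u₂, Category.assoc] using hb')] at h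
    have h1 := congrArg (· ≫ fst X (opn B i.1)) (inj_cancel a b π hinv hzar h)
    simp only [pc, lift_fst, Category.assoc] at h1
    let h₁ := dv b π hinv (β ≫ sec π i) (jj ≫ u₁) (by rw [Category.assoc β, sec_π, hb])
    let h₂ := dv b π hinv (β ≫ sec π i) (jj ≫ u₂) (by rw [Category.assoc β, sec_π, hb'])
    have h1' : lift h₁ (jj ≫ x₁) ≫ a.act = lift h₂ (jj ≫ x₂) ≫ a.act := h1
    have h21 : h₂ = h₁ * (jj ≫ g) := by
      refine dv_unique b π hinv _ _ _ _ ?_
      rw [S16133.act_mul, ← comp_lift_assoc, hg, dv_act]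
    rw [h21, S16133.act_mul, ← comp_lift_assoc] at h1'
    have h3 := congrArg (fun y => lift h₁⁻¹ y ≫ a.act) h1'
    simp only [← S16133.act_mul, inv_mul_cancel, S16133.act_one] at h3
    exact h3.symm
  refine ⟨g, ?_, fun g' hg' => (dv_unique b π hinv u₁ u₂ hπ g' ?_).symm⟩
  · show lift g p ≫ (a.prod b).act = q
    apply CartesianMonoidalCategory.hom_ext
    · simp [AlgGrp.Action.prod, comp_lift_assoc, lift_whiskerLeft_assoc]; exact key
    · simp [AlgGrp.Action.prod, comp_lift_assoc, lift_whiskerLeft_assoc]; exact hg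
  · have := congrArg (· ≫ snd X U) (show lift g' p ≫ (a.prod b).act = q from hg')
    simpa [AlgGrp.Action.prod, comp_lift_assoc, lift_whiskerLeft_assoc, u₁, u₂] using this

theorem isIso_psiY : IsIso (GIT.PsiY (a.prod b) (rho a b π hinv hzar) (rho_invariant a b π hinv hzar)) := by
  have h := (isPullback_rho a b π hinv hzar).map (Over.forget _)
  have : GIT.PsiY (a.prod b) (rho a b π hinv hzar) (rho_invariant a b π hinv hzar) = h.isoPullback.hom :=
    pullback.hom_ext ((pullback.lift_fst _ _ _).trans h.isoPullback_hom_fst.symm)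
      ((pullback.lift_snd _ _ _).trans h.isoPullback_hom_snd.symm)
  rw [this]; infer_instance

/-- The section over a chart. -/
def sig (i : Idx π) : X ⊗ opn B i.1 ⟶ X ⊗ U := lift (fst X (opn B i.1)) (snd X (opn B i.1) ≫ sec π i)

theorem sig_rho (i : Idx π) : sig π i ≫ rho a b π hinv hzar = inj a b π hinv hzar i := by
  rw [comp_rho a b π hinv hzar _ i (snd X (opn B i.1)) (by rw [sig, lift_snd, Category.assoc, sec_π])]
  simp only [sig, lift_fst, lift_snd, pq, pc]
  rw [dv_unique b π hinv _ _ _ 1 (by rw [S16133.act_one]), S16133.act_one, lift_fst_snd, Category.id_comp]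

theorem surjective_rho : Surjective (rho a b π hinv hzar).left := by
  refine ⟨fun z => ?_⟩
  obtain ⟨i, w, rfl⟩ := (datum a b π hinv hzar).cover.exists_eq z
  refine ⟨(sig π i).left.base w, ?_⟩
  rw [← Scheme.Hom.comp_apply, ← Over.comp_left, sig_rho]
  rfl

theorem flat_rho : Flat (rho a b π hinv hzar).left := by
  refine (IsZariskiLocalAtTarget.iff_of_openCover (P := @Flat) (datum a b π hinv hzar).cover).2 fun i => ?_
  let i' : Idx π := i
  have h1 := (AlgGrpLib.TorsorMap.isPullback_whiskerLeft (H := G) (sig (X := X) π i')).paste_horiz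
    ((isPullback_rho a b π hinv hzar).map (Over.forget _))
  have h2 : IsPullback ((G ◁ sig (X := X) π i').left ≫ (a.prod b).act.left) (snd G (X ⊗ opn B i'.1)).left
      (rho a b π hinv hzar).left ((datum a b π hinv hzar).cover.f i) := by
    rw [show (datum a b π hinv hzar).cover.f i = (sig (X := X) π i').left ≫ (rho a b π hinv hzar).left from
      (congrArg CommaMorphism.left (sig_rho a b π hinv hzar i')).symm]
    exact h1
  haveI : Flat G.hom := by
    rw [HasRingHomProperty.iff_of_source_openCover (P := @Flat) G.left.affineCover]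
    intro j
    have hK : IsField Γ(Spec (CommRingCat.of k), ⊤) :=
      (Scheme.ΓSpecIso (CommRingCat.of k)).commRingCatIsoToRingEquiv.toMulEquiv.isField (Field.toIsField k)
    let := hK.toField
    let _ := ((G.left.affineCover.f j ≫ G.hom).appTop).hom.toAlgebra
    show Module.Flat Γ(Spec (CommRingCat.of k), ⊤) _
    infer_instance
  have h3 : Flat (snd G (X ⊗ opn B i'.1)).left :=
    MorphismProperty.of_isPullback (P := @Flat) (IsPullback.of_hasPullback G.hom (X ⊗ opn B i'.1).hom) inferInstance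
  rw [← h2.isoPullback_hom_snd] at h3
  exact (MorphismProperty.cancel_left_of_respectsIso (P := @Flat) _ _).1 h3

end Groth.Agent.EqInt24.ZarQuot
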